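import Cfsg.Agent.W4Q.Defs

/-!
# A module with a local endomorphism ring has at most one small Jordan block
-/

set_option autoImplicit false

open scoped ComplexConjugate ComplexOrder MonoidAlgebra
open Cfsg Cfsg.Lib.Char Cfsg.Lib.Block Cfsg.Lib.Block.Princ Cfsg.Lib.Block.Idem Cfsg.Lib.PrimeOne
open MulAction Subgroup MonoidAlgebra

namespace Cfsg.Lib.W4Q

universe u

namespace JB

open Module Cfsg.Lib.Block.TI

variable {K : Type*} [Field K] {G : Type*} [Group G] [Finite G] {V : Type*} [AddCommGroup V]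
  [Module K V]

theorem eig {F : End K V} {R : Submodule K V} (hR : ∀ v ∈ R, F v ∈ R) {s a : K}
    (hs : IsNilpotent (F - s • 1)) {v : V} (hv : v ∉ R) (h : F v - a • v ∈ R) : a = s := by
  obtain ⟨n, hn⟩ := hs
  have k : ∀ i : ℕ, ((F - s • 1) ^ i) v - (a - s) ^ i • v ∈ R := fun i => by
    induction i with
    | zero => simp
    | succ i ih =>
      convert add_mem (sub_mem (hR _ ih) (R.smul_mem s ih)) (R.smul_mem ((a - s) ^ i) h) using 1
      rw [pow_succ', Module.End.mul_apply]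
      simp only [LinearMap.sub_apply, LinearMap.smul_apply, Module.End.one_apply, map_sub, map_smul]
      module
  have := k n
  rw [hn, LinearMap.zero_apply, zero_sub, neg_mem_iff] at this
  by_contra c
  exact hv ((R.smul_mem_iff (pow_ne_zero n (sub_ne_zero.2 c))).1 this)

theorem main [FiniteDimensional K V] {p : ℕ} [Fact p.Prime] [CharP K p] [IsAlgClosed K] {x y : G}
    {N : Subgroup G} (c : Cy p x y N) (ρ : Representation K G V)
    (h : ∀ F : End K V, (∀ g, ρ g * F = F * ρ g) → ∃ a : K, IsNilpotent (F - a • 1)) :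
    finrank K (LinearMap.ker (ρ x - 1)) ≤ finrank K (LinearMap.range ((ρ x - 1) ^ (p - 1))) + 1 := by
  classical
  have := Fintype.ofFinite G
  have := Fintype.ofFinite (zpowers x)
  have := Fintype.ofFinite (zpowers y)
  have hyN : zpowers y ≤ N := zpowers_le.2 c.mem
  have hrg := fun g (hg : g ∈ zpowers y) j v => range_pow_inv ρ (c.le_norm (hyN hg)) j (v := v)
  have hsum := sum_eq_pow K ρ rfl (c.card.trans (pow_one p).symm)
  have hTn : IsNilpotent (ρ x - 1) := ⟨_, c.pow_eq_zero ρ⟩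
  set T := ρ x - 1 with hT
  set R := LinearMap.range (T ^ (p - 1)) with hR
  have hker : ∀ v, T v = 0 ↔ ρ x v = v := fun v => by
    rw [hT, LinearMap.sub_apply, sub_eq_zero]; rfl
  have hkg : ∀ g ∈ zpowers y, ∀ v, T v = 0 → T (ρ g v) = 0 := fun g hg v hv =>
    (hker _).2 (fix_inv ρ (c.le_norm (hyN hg)) ((hker v).1 hv))
  by_cases h0 : LinearMap.ker T ≤ R
  · exact (Submodule.finrank_mono h0).trans (Nat.le_succ _)
  have hex : ∃ l, LinearMap.ker T ⊓ LinearMap.range (T ^ l) ≤ R := ⟨_, inf_le_right⟩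
  obtain ⟨m, hm⟩ : ∃ m, Nat.find hex = m + 1 := Nat.exists_eq_succ_of_ne_zero fun e =>
    h0 fun v hv => Nat.find_spec hex ⟨hv, v, by rw [e]; rfl⟩
  have hm' := hm ▸ Nat.find_spec hex
  have hm := Nat.find_min hex (m := m) (by omega)
  have hy : (orderOf y : K) ≠ 0 := fun e => c.not_dvd ((CharP.cast_eq_zero_iff K p _).1 e)
  obtain ⟨J, hJ, hJ'⟩ := exists_inv_compl ρ (zpowers y) (by rwa [Nat.card_zpowers]) R
    fun g hg v => hrg g hg _ v
  obtain ⟨w, ⟨⟨hwT, hw⟩, hwJ⟩, hw0, κ, hκ⟩ := exists_eigen_mem (ρ y)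
    (J := LinearMap.ker T ⊓ LinearMap.range (T ^ m) ⊓ J) (fun e => hm fun v hv => by
      have hle : m ≤ p - 1 := by
        by_contra k
        refine hm (inf_le_right.trans ?_)
        rintro _ ⟨u, rfl⟩
        exact ⟨(T ^ (m - (p - 1))) u, by
          rw [← Module.End.mul_apply, ← pow_add, Nat.add_sub_cancel' (by omega)]⟩
      obtain ⟨r, hr, j, hj, rfl⟩ := Submodule.mem_sup.1 (hJ.sup_eq_top.ge (Submodule.mem_top (x := v)))
      have : r ∈ LinearMap.ker T ⊓ LinearMap.range (T ^ m) := by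
        obtain ⟨u, rfl⟩ := hr
        refine ⟨?_, (T ^ (p - 1 - m)) u, by
          rw [← Module.End.mul_apply, ← pow_add, Nat.add_sub_cancel' hle]⟩
        rw [SetLike.mem_coe, LinearMap.mem_ker, ← Module.End.mul_apply, ← pow_succ',
          Nat.sub_add_cancel (Fact.out : p.Prime).pos, c.pow_eq_zero ρ, LinearMap.zero_apply]
      rwa [show j = 0 from e.le ⟨(add_mem_cancel_left this).1 hv, hj⟩, add_zero])
    fun v hv => ⟨⟨hkg y (mem_zpowers y) v hv.1.1, hrg y (mem_zpowers y) _ v hv.1.2⟩,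
      hJ' y (mem_zpowers y) v hv.2⟩
  replace hwT : T w = 0 := hwT
  have hwR : w ∉ R := fun e => hw0 (Submodule.disjoint_def.1 hJ.disjoint w e hwJ)
  obtain ⟨φ₀, hφ₀, hφ₀'⟩ := Submodule.exists_dual_map_eq_bot_of_notMem hwR inferInstance
  obtain ⟨φ, hφ, hφ'⟩ : ∃ φ : Dual K V, φ w = 1 ∧ ∀ v ∈ R, φ v = 0 :=
    ⟨(φ₀ w)⁻¹ • φ₀, inv_mul_cancel₀ hφ₀, fun v hv => by
      rw [LinearMap.smul_apply, show φ₀ v = 0 from hφ₀'.le ⟨v, hv, rfl⟩, smul_zero]⟩
  obtain ⟨ψ, hψ, hψ'⟩ := Mod.exists_commute_extend T (φ.smulRight w) hTn fun l v hvT hv => by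
    refine ⟨by rw [LinearMap.smulRight_apply, map_smul, hwT, smul_zero], ?_⟩
    by_cases hl : l ≤ m
    · obtain ⟨u, rfl⟩ := hw
      refine Submodule.smul_mem _ _ ⟨(T ^ (m - l)) u, ?_⟩
      rw [← Module.End.mul_apply, ← pow_add, Nat.add_sub_cancel' hl]
    · obtain ⟨u, rfl⟩ := hv
      rw [LinearMap.smulRight_apply, hφ' _ (hm' ⟨hvT, (T ^ (l - (m + 1))) u, by
        rw [← Module.End.mul_apply, ← pow_add, Nat.add_sub_cancel' (by omega)]⟩), zero_smul]
      exact zero_mem _
  set σ := Representation.linHom ρ ρ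
  have hψx : σ x ψ = ψ := (linHom_eq_self_iff ρ x ψ).2 (by
    rw [hT, mul_sub, sub_mul, mul_one, one_mul, sub_left_inj] at hψ; exact hψ.symm)
  let f : End K V := ∑ g : zpowers y, σ g ψ
  have hf : ∀ n ∈ N, σ n f = f := c.fix_of σ (by
    rw [map_sum]
    exact Finset.sum_congr rfl fun g _ => fix_inv σ (c.le_norm (hyN g.2)) hψx) (by
    rw [map_sum]
    exact Fintype.sum_equiv (Equiv.mulLeft ⟨y, mem_zpowers y⟩) _ _ fun g => by
      rw [← Module.End.mul_apply, ← map_mul]; rfl)
  obtain ⟨u, hu⟩ := trN_eq (σ := σ) c.le c.free hf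
  have hF := fun g => (linHom_eq_self_iff ρ g _).1 (apply_trN hf g)
  generalize trN σ N f = F at hu hF
  obtain ⟨s, hs⟩ := h F hF
  have hFR : ∀ v ∈ R, F v ∈ R := by
    rintro _ ⟨v, rfl⟩
    have : Commute T F := (show Commute _ _ from hF x).sub_left (Commute.one_left _)
    exact ⟨F v, by rw [← Module.End.mul_apply, (this.pow_left _).eq, Module.End.mul_apply]⟩
  have hfa : ∀ v, T v = 0 → F v - f v ∈ R := fun v hv => by
    have h2 : (∑ z : zpowers x, σ z u) v = (∑ z : zpowers x, ρ z) (u v) := by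
      rw [LinearMap.sum_apply, LinearMap.sum_apply]
      refine Finset.sum_congr rfl fun z _ => ?_
      rw [linHom_apply', Module.End.mul_apply, Module.End.mul_apply,
        apply_eq_of_mem_zpowers ρ (inv_mem z.2) ((hker v).1 hv)]
    rw [hu, LinearMap.add_apply, add_sub_cancel_left, h2, hsum, pow_one]
    exact ⟨_, rfl⟩
  have hfw : ∀ v, T v = 0 → f v ∈ K ∙ w := fun v hv => by
    rw [LinearMap.sum_apply]
    refine Submodule.sum_mem _ fun g _ => ?_
    obtain ⟨c', h1⟩ := smul_of_mem_zpowers ρ g.2 hκ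
    rw [linHom_apply', Module.End.mul_apply, Module.End.mul_apply,
      hψ' _ (hkg _ (inv_mem g.2) v hv), LinearMap.smulRight_apply, map_smul, h1]
    exact Submodule.smul_mem _ _ (Submodule.smul_mem _ _ (Submodule.mem_span_singleton_self w))
  have h1 : f w = (orderOf y : K) • w := by
    rw [LinearMap.sum_apply, ← Nat.card_zpowers, Nat.card_eq_fintype_card, Nat.cast_smul_eq_nsmul,
      ← Finset.card_univ, ← Finset.sum_const]
    refine Finset.sum_congr rfl fun g _ => ?_
    obtain ⟨c', h1⟩ := smul_of_mem_zpowers ρ (inv_mem g.2) hκ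
    have h2 : ψ (ρ (g : G)⁻¹ w) = ρ (g : G)⁻¹ w := by
      rw [h1, map_smul, hψ' w hwT, LinearMap.smulRight_apply, hφ, one_smul]
    rw [linHom_apply', Module.End.mul_apply, Module.End.mul_apply, h2, ← Module.End.mul_apply,
      ← map_mul, mul_inv_cancel, map_one, Module.End.one_apply]
  obtain rfl := eig hFR hs hwR (h1 ▸ hfa w hwT)
  rw [← finrank_span_singleton (K := K) hw0]
  refine (Submodule.finrank_mono fun v hv => ?_).trans
    (Submodule.finrank_add_le_finrank_add_finrank R (K ∙ w))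
  obtain ⟨a, ha⟩ := Submodule.mem_span_singleton.1 (hfw v hv)
  have hv' : T (v - (a / orderOf y) • w) = 0 := by
    rw [map_sub, map_smul, hwT, smul_zero, sub_zero]; exact hv
  have : v - (a / orderOf y) • w ∈ R := by_contra fun e => hy (eig hFR hs e (a := 0) (by
    have := hfa _ hv'
    rwa [map_sub f, map_smul f, h1, smul_smul, div_mul_cancel₀ _ hy, ha, sub_self,
      ← zero_smul K (v - (a / orderOf y) • w)] at this)).symm
  rw [← sub_add_cancel v ((a / orderOf y) • w)]
  exact Submodule.add_mem_sup this (Submodule.smul_mem _ _ (Submodule.mem_span_singleton_self w))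

end JB

namespace St

variable {G : Type u} [Group G] [Finite G] {p q : ℕ} [Fact p.Prime] [Fact q.Prime]
  [MulAction G (ZMod p)] (S : St G p q)

theorem jb (g : S.KG) : S.JB := fun _ _ _ _ ρ h =>
  have := charP_kM S.hM
  JB.main g.cy ρ h

end St

end Cfsg.Lib.W4Q
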