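import Cfsg.Agent.W4Q.Defs

/-! # Identities in the group algebra -/

set_option autoImplicit false
set_option linter.unusedSectionVars false

open scoped ComplexConjugate ComplexOrder MonoidAlgebra
open Cfsg Cfsg.Lib.Char Cfsg.Lib.Block Cfsg.Lib.Block.Princ Cfsg.Lib.Block.Idem Cfsg.Lib.PrimeOne
open MulAction Subgroup MonoidAlgebra

namespace Cfsg.Lib.W4Q

universe u

namespace KAx

variable {G : Type*} [Group G] [Finite G] {L H : Subgroup G} {g : G}

theorem av_mem (h : g ∈ L) : (av L).coeff g = (Nat.card L : ℂ)⁻¹ := if_pos h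

theorem av_not (h : g ∉ L) : (av L).coeff g = 0 := if_neg h

open Classical in
theorem sum_ite [Fintype G] (L : Subgroup G) (c : ℂ) :
    ∑ g, (if g ∈ L then c else 0) = Nat.card L * c := by
  rw [← Finset.sum_filter, Finset.sum_const, nsmul_eq_mul, Nat.card_eq_fintype_card,
    Fintype.card_subtype]

theorem sum_av [Fintype G] (L : Subgroup G) : ∑ g, (av L).coeff g = 1 :=
  (sum_ite L _).trans (mul_inv_cancel₀ (card_ne_zero L))

theorem av_mul (hk : HK G) (h : L ≤ H) : av H * av L = av H := by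
  have := Fintype.ofFinite G
  conv_lhs => rw [eq_sum_smul_single (av L)]
  rw [Finset.mul_sum, Finset.sum_congr rfl (g := fun g => (av L).coeff g • av H) fun g _ => ?_,
    ← Finset.sum_smul, sum_av, one_smul]
  by_cases k : g ∈ L
  · rw [mul_smul_comm, (hk.single_av H g (h k)).2]
  · rw [av_not k, zero_smul, zero_smul, mul_zero]

theorem res_av (h : L ≤ H) : resSub H (av L) = av (L.subgroupOf H) := galg_ext fun g => by
  rw [coeff_resSub]
  by_cases k : g.1 ∈ L
  · rw [av_mem k, av_mem (mem_subgroupOf.2 k), Nat.card_congr (subgroupOfEquivOfLe h).toEquiv]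
  · rw [av_not k, av_not (mt mem_subgroupOf.1 k)]

theorem inc_res (h : L ≤ H) : incSub H (resSub H (av L)) = av L :=
  incSub_resSub_of_support fun _ k => h (by_contra fun l => k (av_not l))

theorem inc_triv (H : Subgroup G) : incSub H (fB {triv H}) = av H := galg_ext fun g => by
  by_cases k : g ∈ H
  · rw [coeff_incSub_of_mem _ _ k, av_mem k, coeff_fB, blockCoeff_eq, Finset.sum_eq_single (triv H)
      (fun X _ l => if_neg (mt Set.mem_singleton_iff.1 l)) (by simp), if_pos (Set.mem_singleton _)]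
    simp
  · rw [coeff_incSub_of_not_mem _ _ k, av_not k]

theorem sum_fB1 : ∑ X : IrrCharacter G, fB {X} = 1 :=
  center_ext_omega (Subalgebra.sum_mem _ fun _ _ => fB_mem_center _) (Subalgebra.one_mem _) fun X => by
    rw [omega_one X.2.apply_one_ne_zero, map_sum, Finset.sum_eq_single X
      (fun Y _ l => omega_fB_of_not_mem (B := {Y}) l.symm) (by simp), omega_fB_of_mem (B := {X}) rfl]

theorem io_inc (b : ℂ[H]) : io (incSub H b) = incSub H (io b) := galg_ext fun g => by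
  by_cases k : g ∈ H
  · rw [coeff_incSub_of_mem _ _ k]; exact coeff_incSub_of_mem _ _ (inv_mem k)
  · rw [coeff_incSub_of_not_mem _ _ k]; exact coeff_incSub_of_not_mem _ _ (mt inv_mem_iff.1 k)

theorem st_inc (b : ℂ[H]) : st (incSub H b) = incSub H (st b) := galg_ext fun g => by
  by_cases k : g ∈ H
  · rw [coeff_incSub_of_mem _ _ k]; exact congrArg conj (coeff_incSub_of_mem _ _ (inv_mem k))
  · rw [coeff_incSub_of_not_mem _ _ k]
    exact (congrArg conj (coeff_incSub_of_not_mem _ _ (mt inv_mem_iff.1 k))).trans (map_zero _)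

theorem gs_inc (σ : ℂ ≃+* ℂ) (b : ℂ[H]) : gs σ (incSub H b) = incSub H (gs σ b) :=
  galg_ext fun g => by
    by_cases k : g ∈ H
    · rw [coeff_incSub_of_mem _ _ k]; exact congrArg σ (coeff_incSub_of_mem _ _ k)
    · rw [coeff_incSub_of_not_mem _ _ k]
      exact (congrArg σ (coeff_incSub_of_not_mem _ _ k)).trans (map_zero _)

variable {p : ℕ} {M : Ideal AlgInt} (hM : IsPModular p M)
include hM

theorem vM_inv {n : ℕ} (h : ¬ p ∣ n) : vM M (n : ℂ)⁻¹ ≤ 1 := by
  rw [map_inv₀, (vM_natCast_eq_one_iff hM _).2 h, inv_one]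

theorem av_OG (h : ¬ p ∣ Nat.card L) : av L ∈ OG M G := fun g => by
  by_cases k : g ∈ L
  · rw [av_mem k]; exact vM_inv hM h
  · rw [av_not k, map_zero]; exact zero_le_one

theorem fB_OG (h : ¬ p ∣ Nat.card G) (B : Set (IrrCharacter G)) : fB B ∈ OG M G := fun g => by
  rw [coeff_fB, ← inv_mul_cancel_left₀ (card_ne_zero G) (blockCoeff B g)]
  exact vM_mul_le_one (vM_inv hM h) (vM_le_one_of_isIntegral (isIntegral_card_mul_blockCoeff B g))

end KAx

open KAx

namespace St

variable {G : Type u} [Group G] [Finite G] {p q : ℕ} [Fact p.Prime] [Fact q.Prime]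
  [MulAction G (ZMod p)] (S : St G p q)

theorem ka (hk : HK G) (hkH : HK S.H) (g : S.KG) : S.KA := by
  classical
  have := Fintype.ofFinite G
  have mL : ∀ {x : G}, x ∈ S.L ↔ x • (0 : ZMod p) = 0 ∧ x • (1 : ZMod p) = 1 := Iff.rfl
  have i0 : S.w⁻¹ • (0 : ZMod p) = 1 := inv_smul_eq_iff.2 S.w1.symm
  have i1 : S.w⁻¹ • (1 : ZMod p) = 0 := inv_smul_eq_iff.2 S.w0.symm
  have wH : S.w⁻¹ ∉ S.H := fun k => one_ne_zero (i0.symm.trans k)
  have ww : S.w * S.w ∈ S.L := mL.2 (by simp only [mul_smul, S.w0, S.w1, and_self])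
  have ee : S.e * S.e = S.e := hk.av_idem _
  have We : single S.w 1 * S.e = S.e * single S.w 1 := (commute_single_iff _ _).2 fun x => by
    refine if_congr ?_ rfl rfl
    rw [mL, mL, mul_smul, mul_smul, mul_smul, mul_smul, i0, i1, ← eq_inv_smul_iff,
      ← eq_inv_smul_iff (g := S.w), i0, i1, and_comm, eq_comm, eq_comm (b := (1 : ZMod p))]
  have eW : S.e * single S.w⁻¹ 1 = S.sw := by
    rw [sw, We, e, ← (hk.single_av _ _ ww).2, mul_assoc, single_mul_single, mul_one,
      mul_inv_cancel_right, (hk.single_av _ _ ww).2]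
  have e_sw : S.e * S.sw = S.sw := by rw [sw, We, ← mul_assoc, ee]
  have sw_e : S.sw * S.e = S.sw := by rw [sw, mul_assoc, ee]
  have sw_sw : S.sw * S.sw = S.e := by
    rw [sw, mul_assoc, ← sw, e_sw, sw, ← mul_assoc, single_mul_single, mul_one]
    exact (hk.single_av _ _ ww).1
  have io_sw : io S.sw = S.sw := by rw [sw, hk.io_mul, hk.io_single, e, hk.io_av]; exact eW
  have gs_sw : ∀ σ, gs σ S.sw = S.sw := fun σ => by rw [sw, hk.gs_mul, hk.gs_single, e, hk.gs_av]
  have eO : S.e ∈ OG S.M G := av_OG S.hM fun k => g.ndvd (k.trans (card_dvd_of_le inf_le_left))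
  have sO : S.sw ∈ OG S.M G := mul_mem (single_one_mem_OG _) eO
  have h2 : vM S.M (2⁻¹ : ℂ) ≤ 1 := vM_inv S.hM (n := 2) fun k => by
    have := Nat.le_of_dvd two_pos k
    have := (Fact.out : q.Prime).pos
    have := S.hpq
    omega
  have Bm' : S.Bm = (2⁻¹ : ℂ) • (S.e + (-1 : ℂ) • S.sw) := by rw [Bm, neg_one_smul, sub_eq_add_neg]
  have ie : incSub S.H (resSub S.H S.e) = S.e := inc_res inf_le_left
  have re : resSub S.H S.e = av (S.L.subgroupOf S.H) := res_av inf_le_left
  have A_eq : ∀ ξ, S.A ξ = incSub S.H (fB {ξ} * resSub S.H S.e) := fun ξ => by rw [map_mul, ie, A]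
  have cm : ∀ B, Commute (incSub S.H (fB B)) S.e := fun B =>
    ie ▸ (commute_of_mem_center (fB_mem_center B) _).map _
  have Ae : ∀ ξ, S.A ξ * S.e = S.A ξ := fun ξ => by rw [A, mul_assoc, ee]
  have AA : ∀ ξ η, S.A ξ * S.A η = incSub S.H (fB {ξ} * fB {η}) * S.e := fun ξ η => by
    rw [A, A, (cm _).symm.mul_mul_mul_comm, ee, map_mul]
  have mc : ∀ ξ, (S.m ξ : ℂ) = ev ξ (resSub S.H S.e) := hkH.mu_cast _ (re ▸ hkH.av_idem _)
  have A_zero : ∀ ξ, S.m ξ = 0 → S.A ξ = 0 := fun ξ k => by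
    rw [A_eq, hkH.ext (fB {ξ} * resSub S.H S.e) fun X b => ?_, map_zero]
    rw [mul_assoc]
    by_cases l : X ∈ ({ξ} : Set _)
    · refine (evalFn_fB_mul_of_mem l _).trans (hkH.zero _ (re ▸ hkH.av_idem _) X ?_ b)
      rw [Set.mem_singleton_iff.1 l, ← mc, k, Nat.cast_zero]
    · exact evalFn_fB_mul_of_not_mem l _
  have co_A : ∀ ξ, (Nat.card G : ℂ) * (S.A ξ).coeff 1 = S.m ξ * p * deg ξ := fun ξ => by
    have := hkH.sum_deg (fB {ξ} * resSub S.H S.e)
    rw [Finset.sum_eq_single ξ (fun X _ l => by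
      rw [ev, evalFn_fB_mul_of_not_mem (B := {ξ}) l, mul_zero]) (by simp), ev,
      evalFn_fB_mul_of_mem (B := {ξ}) rfl, ← ev, ← mc] at this
    rw [A_eq, coeff_incSub_of_mem _ _ (one_mem _), g.cardH, Nat.cast_mul, mul_assoc]
    exact (congrArg _ this.symm).trans (by ring)
  have co_A_L : ∀ ξ, ∀ x ∈ S.L, (S.A ξ).coeff x = (S.A ξ).coeff 1 := fun ξ x hx => by
    conv_rhs => rw [← Ae, e, ← (hk.single_av _ _ (inv_mem hx)).2, ← mul_assoc, ← e, Ae,
      coeff_mul_single_apply, inv_inv, one_mul, mul_one]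
  have co_A_H : ∀ ξ, ∀ x ∉ S.H, (S.A ξ).coeff x = 0 := fun ξ x hx => by
    rw [A_eq, coeff_incSub_of_not_mem _ _ hx]
  have As : ∀ ξ x, (S.A ξ * S.sw).coeff x = (S.A ξ).coeff (x * S.w⁻¹) := fun ξ x => by
    rw [sw, We, ← mul_assoc, Ae, coeff_mul_single_apply, mul_one]
  have cG : (Nat.card G : ℂ) = p * (4 * q) * Nat.card S.L := by
    rw [g.cardH, g.cardL]; push_cast; ring
  refine
    { e_sw := e_sw, sw_e := sw_e, sw_sw := sw_sw, io_sw := io_sw, gs_sw := gs_sw
      st_sw := by rw [sw, hk.st_mul, hk.st_single, e, hk.st_av]; exact eW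
      sub_e := ⟨ee, eO, ee, ee⟩
      sub_B := ⟨?_, smul_mem_OG h2 (add_mem eO sO), by rw [B, mul_smul_comm, mul_add, ee, e_sw],
        by rw [B, smul_mul_assoc, add_mul, ee, sw_e]⟩
      sub_Bm := ⟨?_, smul_mem_OG h2 (sub_mem eO sO), by rw [Bm, mul_smul_comm, mul_sub, ee, e_sw],
        by rw [Bm, smul_mul_assoc, sub_mul, ee, sw_e]⟩
      sub_A := fun ξ => ⟨(AA ξ ξ).trans (by rw [fB_mul_self, A]),
        mul_mem (incSub_mem_OG _ (fB_OG S.hM g.ndvd _)) eO,
        by rw [A, ← mul_assoc, ← (cm _).eq, mul_assoc, ee], Ae ξ⟩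
      B_add := by rw [B, Bm]; module
      B_sub := by rw [B, Bm]; module
      io_B := by rw [B, hk.io_smul, hk.io_add, io_sw, e, hk.io_av]
      io_Bm := by rw [Bm', hk.io_smul, hk.io_add, hk.io_smul, io_sw, e, hk.io_av]
      gs_B := fun σ => by rw [B, hk.gs_smul, hk.gs_add, gs_sw, e, hk.gs_av, map_inv₀, map_ofNat]
      gs_Bm := fun σ => by
        rw [Bm', hk.gs_smul, hk.gs_add, hk.gs_smul, gs_sw, e, hk.gs_av, map_inv₀, map_ofNat, map_neg,
          map_one]
      A_mul := fun ξ η k => by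
        rw [AA, fB_mul_fB_of_disjoint (Set.disjoint_singleton.2 k), map_zero, zero_mul]
      A_triv := by rw [A, inc_triv]; exact av_mul hk inf_le_left
      A_zero := A_zero
      sum_A := ?_
      A_eq := A_eq, res_e := re
      m_triv := ?_
      io_A := fun ξ => by rw [A, hk.io_mul, io_inc, hkH.io_fB, e, hk.io_av]; exact (cm _).eq.symm
      st_A := fun ξ => by rw [A, hk.st_mul, st_inc, hkH.st_fB, e, hk.st_av]; exact (cm _).eq.symm
      gs_A := fun σ ξ => by rw [A, hk.gs_mul, gs_inc, hkH.gs_fB, e, hk.gs_av]; rfl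
      co_A := co_A, co_A_L := co_A_L, co_A_H := co_A_H
      co_As := fun ξ => by rw [As, one_mul, co_A_H _ _ wH]
      co_AsAs := fun ξ η => ?_
      co_e := by rw [cG, e, av_mem (one_mem _), mul_inv_cancel_right₀ (card_ne_zero _)]
      co_sw := by rw [sw, coeff_single_mul_apply, mul_one, e, av_not (L := S.L) fun k => wH k.1, mul_zero] }
  · rw [IsIdempotentElem, B, smul_mul_smul_comm, mul_add, add_mul, add_mul, ee, e_sw, sw_e, sw_sw]
    module
  · rw [IsIdempotentElem, Bm, smul_mul_smul_comm, mul_sub, sub_mul, sub_mul, ee, e_sw, sw_e, sw_sw]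
    module
  · have mX : ∀ ξ, ξ ∈ S.Xi ↔ ξ ≠ triv S.H ∧ S.m ξ ≠ 0 := fun ξ => by simp [Xi]
    rw [Finset.sum_subset (s₁ := S.Xi) (s₂ := Finset.univ.erase (triv S.H)) (fun ξ k => by
      simpa using ((mX ξ).1 k).1) fun ξ k l => A_zero ξ (by_contra fun n => l
        ((mX ξ).2 ⟨Finset.ne_of_mem_erase k, n⟩)), Finset.add_sum_erase _ _ (Finset.mem_univ _)]
    simp only [A]
    rw [← Finset.sum_mul, ← map_sum, sum_fB1, map_one, one_mul]
  · have := mc (triv S.H)
    rw [re, ev, evalFn_apply] at this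
    simp only [triv_apply, mul_one, sum_av] at this
    exact_mod_cast this
  · have k : (S.A ξ * S.sw * S.A η * S.sw).coeff 1 =
        Nat.card S.L * ((S.A ξ).coeff 1 * (S.A η).coeff 1) := by
      rw [mul_assoc, coeff_mul_fintype, ← sum_ite, ← Equiv.sum_comp (Equiv.mulRight S.w)]
      refine Finset.sum_congr rfl fun x _ => ?_
      rw [As, As, Equiv.coe_mulRight, mul_inv_cancel_right, mul_one]
      split_ifs with l
      · rw [co_A_L _ _ l, co_A_L η]
        rw [mL, mul_inv_rev, mul_smul, mul_smul, mul_smul, mul_smul, i0, i1, (mL.1 (inv_mem l)).1,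
          (mL.1 (inv_mem l)).2]
        exact ⟨i1, i0⟩
      by_cases n : x ∈ S.H
      · rw [co_A_H η _ fun k => l ⟨n, ?_⟩, mul_zero]
        rw [mem_stabilizer_iff, mul_smul, i0, inv_smul_eq_iff, mul_smul, S.w0] at k
        exact k.symm
      · rw [co_A_H _ _ n, zero_mul]
    refine mul_left_cancel₀ (Nat.cast_ne_zero.2 (Fact.out : p.Prime).ne_zero : (p : ℂ) ≠ 0) ?_
    rw [k]
    linear_combination (Nat.card G * (S.A η).coeff 1) * co_A ξ + (S.m ξ * p * deg ξ) * co_A η -
      (Nat.card G * (S.A ξ).coeff 1 * (S.A η).coeff 1) * cG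

end St

end Cfsg.Lib.W4Q
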