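import Cfsg.Agent.W4Q.Defs
import Cfsg.Agent.Char.IndTransport
import Cfsg.Agent.Perm.Neumann

/-! Transitive groups of degree `4 q + 1`: multiplicities. -/

set_option autoImplicit false

open scoped ComplexConjugate ComplexOrder MonoidAlgebra
open Cfsg Cfsg.Lib.Char Cfsg.Lib.Block Cfsg.Lib.Block.Princ Cfsg.Lib.Block.Idem Cfsg.Lib.PrimeOne
open MulAction Subgroup MonoidAlgebra

namespace Cfsg.Lib.W4Q

universe u

namespace KBL

variable {K : Type*} [Group K] [Finite K]

theorem ev_av (θ : K → ℂ) (L : Subgroup K) [Fintype L] :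
    evalFn θ (av L) = (Nat.card L : ℂ)⁻¹ * ∑ g : L, θ g := by
  classical
  have := Fintype.ofFinite K
  rw [evalFn_apply, Finset.mul_sum, ← Finset.sum_subtype (Finset.univ.filter (· ∈ L)) (by simp)
    fun g => (Nat.card L : ℂ)⁻¹ * θ g, Finset.sum_filter]
  exact Finset.sum_congr rfl fun g _ => by simp only [av, coeff_ofFun]; split_ifs <;> simp

theorem ev_stab [Fintype K] {X : Type*} [MulAction K X] [Finite X] [IsPretransitive K X] (x : X)
    (Y : IrrCharacter K) :
    ev Y (av (stabilizer K x)) = classInner (Y : K → ℂ) fun g => (Nat.card (fixedBy X g) : ℂ) := by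
  have := Fintype.ofFinite (stabilizer K x)
  rw [funext (card_fixedBy_eq_indFun X x), classInner_indFun_right _ _ Y.2.isClassFunction, ev, ev_av]
  simp [classInner]

theorem one_av (L : Subgroup K) : evalFn (fun _ => (1 : ℂ)) (av L) = 1 := by
  have := Fintype.ofFinite L
  rw [ev_av]
  simp

theorem mu_gs (hk : HK K) {a : ℂ[K]} (h : IsIdempotentElem a) (σ : ℂ ≃+* ℂ) (X : IrrCharacter K) :
    mu (gs σ a) (gal σ X) = mu a X := by
  rw [mu, hk.ev_gs, ← hk.mu_cast a h, map_natCast, hk.mu_cast a h, mu]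

theorem sum_mu (hk : HK K) {a : ℂ[K]} (h : IsIdempotentElem a) :
    ((∑ X, mu a X * deg X : ℕ) : ℂ) = Nat.card K * a.coeff 1 := by
  rw [← hk.sum_deg, Nat.cast_sum]
  exact Finset.sum_congr rfl fun X _ => by rw [Nat.cast_mul, hk.mu_cast a h, mul_comm]

end KBL

open KBL

namespace St

variable {G : Type u} [Group G] [Finite G] {p q : ℕ} [Fact p.Prime] [Fact q.Prime]
  [MulAction G (ZMod p)] (S : St G p q)

theorem kb (hk : HK G) (hkH : HK S.H) (g : S.KG) (a : S.KA) : S.KB := by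
  classical
  have := Fintype.ofFinite G
  have inj : Function.Injective (Nat.cast : ℕ → ℂ) := Nat.cast_injective
  have q0 : 0 < q := (Fact.out : q.Prime).pos
  have dchi : deg S.chi = 4 * q := inj (by
    rw [deg_cast, S.hchi, fixedBy_one_eq_univ, Nat.card_univ, Nat.card_zmod, S.hpq]; simp)
  have ne : S.chi ≠ triv G := fun e => by rw [e, deg_triv] at dchi; omega
  have eI : IsIdempotentElem (resSub S.H S.e) := a.res_e ▸ hkH.av_idem _
  have tr : IsPretransitive G (ZMod p) := ⟨fun i k => by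
    obtain ⟨x, hx, -⟩ := S.two i (i + 1) k (k + 1) (by simp) (by simp)
    exact ⟨x, hx⟩⟩
  have trH : IsPretransitive S.H (SubMulAction.ofStabilizer G (0 : ZMod p)) := ⟨fun i k => by
    obtain ⟨x, h0, hx⟩ := S.two 0 i 0 k (Ne.symm i.2) (Ne.symm k.2)
    exact ⟨⟨x, h0⟩, Subtype.ext hx⟩⟩
  have mA : ∀ X, mu S.e X = mu (S.A (triv S.H)) X + ∑ ξ ∈ S.Xi, mu (S.A ξ) X := fun X => inj (by
    push_cast
    simp only [hk.mu_cast _ a.sub_e.1, hk.mu_cast _ (a.sub_A _).1]
    rw [← a.sum_A, map_add, map_sum])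
  have res : (fun h : S.H => (S.chi : G → ℂ) h) = ∑ η, (S.m η : ℂ) • (η : S.H → ℂ) := by
    rw [(S.chi.2.isClassFunction.res S.H).eq_sum_irr]
    refine Finset.sum_congr rfl fun η _ => ?_
    congr 1
    have e := ev_stab (K := S.H) (⟨1, one_ne_zero⟩ : SubMulAction.ofStabilizer G (0 : ZMod p)) η
    rw [show stabilizer S.H (⟨1, one_ne_zero⟩ : SubMulAction.ofStabilizer G (0 : ZMod p)) =
      S.L.subgroupOf S.H from Subgroup.ext fun h => ⟨fun k => ⟨h.2, congrArg Subtype.val k⟩,
        fun k => Subtype.ext k.2⟩, ← a.res_e, ← hkH.mu_cast _ eI] at e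
    rw [← conj_classInner, ← Complex.conj_natCast, m, e]
    congr 2
    funext h
    rw [S.hchi, sub_eq_iff_eq_add, ← Nat.cast_succ, Nat.cast_inj, Nat.card_coe_set_eq,
      Nat.card_coe_set_eq, ← Set.ncard_image_of_injective _ Subtype.val_injective,
      Nat.succ_eq_add_one,
      ← Set.ncard_insert_of_notMem (SubMulAction.notMem_val_image G _) (Set.toFinite _)]
    congr 1
    ext z
    refine ⟨fun k => (eq_or_ne z 0).imp id fun z0 => ⟨⟨z, z0⟩, Subtype.ext k, rfl⟩, ?_⟩
    rintro (rfl | ⟨z, k, rfl⟩)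
    exacts [h.2, congrArg Subtype.val k]
  have mchi : ∀ ξ, mu (S.A ξ) S.chi = S.m ξ ^ 2 := fun ξ => inj (by
    rw [hk.mu_cast _ (a.sub_A _).1, a.A_eq, ev, evalFn_incSub, res, evalFn_sum_fun,
      Finset.sum_eq_single ξ (fun η _ h => by
        rw [evalFn_smul_fun, evalFn_fB_mul_of_not_mem (by simpa using h), mul_zero]) (by simp),
      evalFn_smul_fun, evalFn_fB_mul_of_mem (Set.mem_singleton ξ), Nat.cast_pow, sq]
    congr 1
    exact (hkH.mu_cast _ eI ξ).symm)
  have e1 : ev (triv G) S.e = 1 := one_av _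
  have s1 : ev (triv G) S.sw = 1 := by
    rw [← e1, sw, ev, evalFn_single_mul, evalFn_apply]; rfl
  have gm : ∀ σ ξ, S.m (gal σ ξ) = S.m ξ := fun σ ξ => by
    rw [m, m, ← mu_gs hkH eI σ ξ, a.res_e, hkH.gs_av]
  have mX : ∀ ξ, ξ ∈ S.Xi ↔ ξ ≠ triv S.H ∧ S.m ξ ≠ 0 := fun ξ => by simp [Xi]
  have gX : ∀ σ, ∀ ξ ∈ S.Xi, gal σ ξ ∈ S.Xi := fun σ ξ h => by
    rw [mX] at h ⊢
    rw [gm]
    exact ⟨fun e => h.1 (hkH.gal_inj σ (e.trans (hkH.gal_triv σ).symm)), h.2⟩
  have gc : ∀ σ, gal σ S.chi = S.chi := fun σ => Subtype.ext (funext fun x => by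
    rw [gal, galoisPerm_apply, S.hchi, map_sub, map_natCast, map_one])
  have gd : ∀ σ X, S.dl (gal σ X) = S.dl X := fun σ X => by
    have : ∀ d, S.Val (gal σ X) d ↔ S.Val X d := fun d => forall₂_congr fun i _ => by
      rw [gal, galoisPerm_apply]
      exact ⟨fun e => σ.injective (e.trans (map_intCast σ d).symm), fun e => by rw [e, map_intCast]⟩
    simp only [dl, this]
  refine
    { mu_B := fun X => inj (by
        rw [Nat.cast_add, hk.mu_cast _ a.sub_e.1, hk.mu_cast _ a.sub_B.1, hk.mu_cast _ a.sub_Bm.1,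
          ← map_add, a.B_add])
      mu_A := mA
      mu_triv := fun X => inj ?_
      mu_chi := mchi
      A_one := fun ξ h => inj (by
        rw [hk.mu_cast _ (a.sub_A _).1, a.A_eq, ev, evalFn_incSub, Nat.cast_zero]
        exact evalFn_fB_mul_of_not_mem (χ := triv S.H) ((mX ξ).1 h).1.symm _)
      B_one := inj (by rw [hk.mu_cast _ a.sub_B.1, B, map_smul, map_add, e1, s1]; norm_num)
      Bm_one := inj (by rw [hk.mu_cast _ a.sub_Bm.1, Bm, map_smul, map_sub, e1, s1]; norm_num)
      mu_le := fun b hb X => ?_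
      mu_bar := fun b X => by rw [mu, mu, hk.ev_io]
      deg_A := fun ξ => inj (by rw [sum_mu hk (a.sub_A ξ).1, a.co_A]; simp)
      deg_B := inj (by
        rw [sum_mu hk a.sub_B.1, B, coeff_smul_apply', coeff_add_apply, a.co_sw]
        push_cast; linear_combination 2⁻¹ * a.co_e)
      deg_Bm := inj (by
        rw [sum_mu hk a.sub_Bm.1, Bm, coeff_smul_apply', coeff_sub_apply, a.co_sw]
        push_cast; linear_combination 2⁻¹ * a.co_e)
      sum_m := ?_
      two_le := ?_
      gal_A := fun σ ξ X => by rw [← a.gs_A, mu_gs hk (a.sub_A ξ).1]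
      gal_B := fun σ X => by rw [← mu_gs hk a.sub_B.1 σ X, a.gs_B]
      gal_Bm := fun σ X => by rw [← mu_gs hk a.sub_Bm.1 σ X, a.gs_Bm]
      gal_m := gm
      gal_Xi := gX
      bar_Xi := fun ξ h => hkH.bar_eq ξ ▸ gX _ ξ h
      gal_chi := gc
      bar_chi := (hk.bar_eq _).trans (gc _)
      deg_chi := dchi
      dl_chi := S.dl_eq_neg_one.2 fun i hi => by
        rw [S.hchi, Set.eq_empty_of_forall_notMem (s := fixedBy (ZMod p) (S.x ^ i))
          fun j => g.fix_x i j hi]; simp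
      dl_triv := S.dl_eq_one.2 fun i _ => by simp
      dl_gal := gd
      dl_bar := fun X => by rw [hk.bar_eq, gd]
      deg_one := fun X => eq_triv_of_deg_one g.perf
      prime_le := fun X r hr h => g.prime_le r hr (h.trans (deg_dvd_card X)) }
  · rw [hk.mu_cast _ (a.sub_A _).1, a.A_triv, ev_stab,
      show (fun x : G => (Nat.card (fixedBy (ZMod p) x) : ℂ)) = (triv G : G → ℂ) + S.chi from
        funext fun x => by simp [S.hchi], classInner_add_right, classInner_irr, classInner_irr]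
    by_cases h1 : X = triv G
    · simp [h1, ne.symm]
    · simp [h1]
  · have i : IsIdempotentElem (S.e - b) := by
      rw [IsIdempotentElem, sub_mul, mul_sub, mul_sub, a.sub_e.1.eq, hb.1.eq, hb.2.2.1, hb.2.2.2]
      abel
    have : mu S.e X = mu b X + mu (S.e - b) X := inj (by
      rw [Nat.cast_add, hk.mu_cast _ a.sub_e.1, hk.mu_cast _ hb.1, hk.mu_cast _ i, map_sub]; ring)
    omega
  · have e := congrFun res 1
    rw [Finset.sum_apply, ← Finset.add_sum_erase _ _ (Finset.mem_univ (triv S.H))] at e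
    refine inj ?_
    rw [← dchi, deg_cast, show (S.chi : G → ℂ) 1 = _ from e, a.m_triv, add_comm]
    push_cast
    congr 1
    · simp
    refine (Finset.sum_congr rfl fun ξ _ => by rw [deg_cast]; rfl).trans
      (Finset.sum_subset (fun ξ h => ?_) fun ξ h h' => ?_)
    · simpa using ((mX ξ).1 h).1
    · rw [mX, not_and, not_not] at h'
      simp [h' (Finset.mem_erase.1 h).1]
  · by_contra hn
    refine S.not3 (Perm.Neumann.three_trans_of_forall (α := (0 : ZMod p)) (β := 1)
      (is_two_pretransitive_iff.2 fun h1 h2 => S.two _ _ _ _ h1 h2) zero_ne_one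
      fun c d c0 c1 d0 d1 => by_contra fun hcd => ?_)
    have := Fintype.ofFinite (orbitRel.Quotient S.L (ZMod p))
    have e := mA S.chi
    simp only [mchi, a.m_triv] at e
    have e2 : Fintype.card (orbitRel.Quotient S.L (ZMod p)) = mu S.e S.chi + 1 := inj (by
      rw [Nat.cast_add, hk.mu_cast _ a.sub_e.1, Nat.cast_one, ← e1, ev, ev, ← evalFn_add_fun, St.e,
        ev_av, eq_inv_mul_iff_mul_eq₀ (Nat.cast_ne_zero.2 Nat.card_pos.ne'), mul_comm,
        Nat.card_eq_fintype_card, ← Nat.cast_mul, ← sum_card_fixedBy_eq_card_orbits_mul_card_group,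
        Nat.cast_sum]
      refine Finset.sum_congr rfl fun x _ => ?_
      rw [Pi.add_apply, S.hchi, triv_apply, sub_add_cancel, ← Nat.card_eq_fintype_card]; rfl)
    have k : ∀ {u v : ZMod p}, (∀ x : S.L, (x : G) • u ≠ v) →
        (Quotient.mk'' v : orbitRel.Quotient S.L (ZMod p)) ≠ Quotient.mk'' u := fun h e => by
      obtain ⟨x, hx⟩ := Quotient.exact' e
      exact h x hx
    have k0 : ∀ {v}, v ≠ 0 → (Quotient.mk'' v : orbitRel.Quotient S.L (ZMod p)) ≠ Quotient.mk'' 0 :=
      fun h => k fun x e => h (e.symm.trans x.2.1)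
    have k1 : ∀ {v}, v ≠ 1 → (Quotient.mk'' v : orbitRel.Quotient S.L (ZMod p)) ≠ Quotient.mk'' 1 :=
      fun h => k fun x e => h (e.symm.trans x.2.2)
    have h4 := Finset.card_le_univ ({Quotient.mk'' d, Quotient.mk'' c, Quotient.mk'' 1,
      Quotient.mk'' 0} : Finset (orbitRel.Quotient S.L (ZMod p)))
    rw [Finset.card_insert_of_notMem (by
        simp [k0 d0, k1 d1, k fun x e => hcd ⟨x, x.2.1, x.2.2, e⟩]),
      Finset.card_insert_of_notMem (by simp [k0 c0, k1 c1]), Finset.card_pair (k0 one_ne_zero)] at h4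
    omega

end St

end Cfsg.Lib.W4Q
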