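import Cfsg.Agent.W4Q.Defs

/-! # The inequality for constituents of multiplicity one -/

set_option autoImplicit false

open scoped ComplexConjugate ComplexOrder MonoidAlgebra
open Cfsg Cfsg.Lib.Char Cfsg.Lib.Block Cfsg.Lib.Block.Princ Cfsg.Lib.Block.Idem Cfsg.Lib.PrimeOne
open MulAction Subgroup MonoidAlgebra

namespace Cfsg.Lib.W4Q

universe u

namespace KIx

theorem arith {ι : Type*} [Fintype ι] (d α τ υ : ι → ℝ) (X : ι) {p f v : ℝ} (hd : ∀ Z, 0 ≤ d Z)
    (hpf : 0 < p * f) (hv : 0 < v) (h0 : ∑ Z, d Z * α Z = p * f) (h1 : ∑ Z, d Z * τ Z = 0)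
    (h2 : v * ∑ Z, d Z * υ Z = p * f * f) (hα : α X = 1) (hυ : υ X = τ X ^ 2)
    (k1 : ∀ Z, υ Z ≤ α Z) (k2 : ∀ Z r, 0 ≤ α Z * (r * r) + 2 * τ Z * r + υ Z) :
    d X * (f + v) ≤ v * p * f := by
  classical
  rw [← Finset.add_sum_erase _ _ (Finset.mem_univ X)] at h0 h1 h2
  have e1 : ∑ Z ∈ Finset.univ.erase X, d Z * υ Z ≤ ∑ Z ∈ Finset.univ.erase X, d Z * α Z :=
    Finset.sum_le_sum fun Z _ => mul_le_mul_of_nonneg_left (k1 Z) (hd Z)
  have e2 := discrim_le_zero (a := ∑ Z ∈ Finset.univ.erase X, d Z * α Z)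
    (b := 2 * ∑ Z ∈ Finset.univ.erase X, d Z * τ Z) (c := ∑ Z ∈ Finset.univ.erase X, d Z * υ Z)
    fun r => by
      simp only [Finset.mul_sum, Finset.sum_mul, ← Finset.sum_add_distrib]
      exact Finset.sum_nonneg fun Z _ => (mul_nonneg (hd Z) (k2 Z r)).trans_eq (by ring)
  rw [discrim] at e2
  rw [hα] at h0
  rw [hυ] at h2
  generalize ∑ Z ∈ Finset.univ.erase X, d Z * α Z = R0 at *
  generalize ∑ Z ∈ Finset.univ.erase X, d Z * τ Z = R1 at *
  generalize ∑ Z ∈ Finset.univ.erase X, d Z * υ Z = R2 at *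
  obtain rfl : R0 = p * f - d X := by linarith
  obtain rfl : R1 = -(d X * τ X) := by linarith
  have e3 : v * (d X * τ X ^ 2) ≤ (p * f - d X) * f := by
    refine le_of_mul_le_mul_left ?_ hpf
    have := mul_le_mul_of_nonneg_left e2 hv.le
    have e4 : v * R2 = p * f * f - v * (d X * τ X ^ 2) := by linarith
    have e5 : v * ((2 * -(d X * τ X)) ^ 2 - 4 * (p * f - d X) * R2) =
        4 * (d X * (v * (d X * τ X ^ 2))) - 4 * (p * f - d X) * (v * R2) := by ring
    rw [e5, e4] at this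
    linarith
  have := mul_le_mul_of_nonneg_left e1 hv.le
  linarith

end KIx

namespace St

variable {G : Type u} [Group G] [Finite G] {p q : ℕ} [Fact p.Prime] [Fact q.Prime]
  [MulAction G (ZMod p)] (S : St G p q)

theorem ki (hk : HK G) (g : S.KG) (a : S.KA) : S.KI := by
  intro ξ hm X hX
  have hA : S.A ξ * S.A ξ = S.A ξ := (a.sub_A ξ).1
  have hA' : ∀ z, S.A ξ * (S.A ξ * z) = S.A ξ * z := fun z => by rw [← mul_assoc, hA]
  have hs : S.sw * (S.sw * S.A ξ) = S.A ξ := by rw [← mul_assoc, a.sw_sw, (a.sub_A ξ).2.2.1]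
  have c1 : ∀ Z, ev Z (S.A ξ * (S.sw * S.A ξ)) = ev Z (S.A ξ * S.sw) := fun Z => by
    rw [← mul_assoc, hk.comm, hA']
  have c2 : ∀ Z, ev Z (S.A ξ * (S.sw * (S.A ξ * (S.sw * S.A ξ)))) =
      ev Z (S.A ξ * S.sw * S.A ξ * S.sw) := fun Z => by
    rw [← mul_assoc, ← mul_assoc, ← mul_assoc, hk.comm]
    simp only [mul_assoc, hA']
  have hX1 : ev X (S.A ξ) = 1 := by rw [← hk.mu_cast _ hA, hX, Nat.cast_one]
  have hre : ev X (S.A ξ * S.sw) = (ev X (S.A ξ * S.sw)).re := by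
    refine (Complex.conj_eq_iff_re.1 ?_).symm
    rw [← hk.ev_st, hk.st_mul, a.st_sw, a.st_A, hk.comm]
  have hs0 : ∀ b : ℂ[G], ∑ Z : IrrCharacter G, (deg Z : ℝ) * (ev Z b).re =
      ((Nat.card G : ℂ) * b.coeff 1).re := fun b => by
    rw [← hk.sum_deg, Complex.re_sum]
    simp
  have := KIx.arith (fun Z : IrrCharacter G => (deg Z : ℝ)) (fun Z => (ev Z (S.A ξ)).re)
    (fun Z => (ev Z (S.A ξ * S.sw)).re) (fun Z => (ev Z (S.A ξ * S.sw * S.A ξ * S.sw)).re) X
    (p := p) (f := deg ξ) (v := 4 * q) (fun Z => Nat.cast_nonneg _)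
    (mul_pos (Nat.cast_pos.2 (Fact.out : p.Prime).pos) (Nat.cast_pos.2 (deg_pos ξ)))
    (mul_pos four_pos (Nat.cast_pos.2 (Fact.out : q.Prime).pos))
    (by rw [hs0, a.co_A, hm]; simp) (by rw [hs0, a.co_As]; simp)
    (by
      have := congrArg Complex.re (a.co_AsAs ξ ξ)
      rw [hm] at this
      rw [hs0]
      simpa using this)
    (by simp [hX1]) (by
      rw [hk.one _ hA X hX1, hre, ← Complex.ofReal_mul]
      simp [sq])
    (fun Z => by
      have h1 := hk.pos Z (S.sw * S.A ξ + (-1 : ℂ) • (S.A ξ * (S.sw * S.A ξ)))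
      simp only [hk.st_add, hk.st_smul, hk.st_mul, a.st_sw, a.st_A, add_mul, mul_add, smul_mul_assoc,
        mul_smul_comm, mul_assoc, hA, hA', hs, map_add, map_smul, c2] at h1
      have h2 := (Complex.nonneg_iff.1 h1).1
      simp only [mul_assoc]
      simp at h2
      linarith)
    (fun Z r => by
      have h1 := hk.pos Z (S.A ξ * (S.sw * S.A ξ) + (r : ℂ) • S.A ξ)
      simp only [hk.st_add, hk.st_smul, hk.st_mul, a.st_sw, a.st_A, add_mul, mul_add, smul_mul_assoc,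
        mul_smul_comm, mul_assoc, hA, hA', hs, map_add, map_smul, c1, c2] at h1
      have h2 := (Complex.nonneg_iff.1 h1).1
      simp only [mul_assoc]
      simp at h2
      linarith)
  exact_mod_cast this

end St

end Cfsg.Lib.W4Q
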