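import Cfsg.Agent.W4Q.Defs
import Cfsg.Agent.Perm.Neumann

/-!
# Transitive groups of degree `p = 4 q + 1`: the neighbours in the Brauer tree
-/

set_option autoImplicit false

open scoped ComplexConjugate ComplexOrder MonoidAlgebra
open Cfsg Cfsg.Lib.Char Cfsg.Lib.Block Cfsg.Lib.Block.Princ Cfsg.Lib.Block.Idem Cfsg.Lib.PrimeOne
open MulAction Subgroup MonoidAlgebra

namespace Cfsg.Lib.W4Q

universe u

namespace KPa

section Alg

variable {G : Type*} [Group G] [Finite G] {k : Type*} [Field k]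

/-- The linear antiautomorphism `g ↦ g⁻¹` over any field. -/
noncomputable def iv (a : k[G]) : k[G] := ofFun fun g => a.coeff g⁻¹

theorem iv_iv (a : k[G]) : iv (iv a) = a := galg_ext fun g => by
  show a.coeff g⁻¹⁻¹ = _
  rw [inv_inv]

theorem iv_zero : iv (0 : k[G]) = 0 := galg_ext fun _ => rfl

theorem iv_mul (a b : k[G]) : iv (a * b) = iv b * iv a := galg_ext fun g => by
  have := Fintype.ofFinite G
  show (a * b).coeff g⁻¹ = _
  rw [coeff_mul_fintype', coeff_mul_fintype, ← Equiv.sum_comp (Equiv.inv G)]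
  refine Finset.sum_congr rfl fun x _ => ?_
  show a.coeff (g⁻¹ * x⁻¹⁻¹) * b.coeff x⁻¹ = b.coeff x⁻¹ * a.coeff (x⁻¹ * g)⁻¹
  rw [mul_inv_rev, mul_comm]

theorem prim_iv {c : k[G]} (h : PrimIn (⊤ : Subalgebra k k[G]) c) :
    PrimIn (⊤ : Subalgebra k k[G]) (iv c) where
  mem := trivial
  idem := by rw [IsIdempotentElem, ← iv_mul, h.idem.eq]
  ne_zero e := h.ne_zero (by rw [← iv_iv c, e, iv_zero])
  prim d _ hd h1 h2 := by
    refine (h.prim (iv d) trivial (by rw [IsIdempotentElem, ← iv_mul, hd.eq]) ?_ ?_).imp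
      (fun e => by rw [← iv_iv d, e, iv_zero]) fun e => by rw [← e, iv_iv]
    · rw [← iv_iv c, ← iv_mul, h2]
    · rw [← iv_iv c, ← iv_mul, h1]

omit [Finite G] in
theorem alg_apply [Fintype G] {V : Type*} [AddCommGroup V] [Module k V] (ρ : Representation k G V)
    (c : k[G]) (v : V) : ρ.asAlgebraHom c v = ∑ g, c.coeff g • ρ g v := by
  conv_lhs => rw [eq_sum_single c, map_sum, LinearMap.sum_apply]
  exact Finset.sum_congr rfl fun g _ => by
    rw [Representation.asAlgebraHom_single, LinearMap.smul_apply]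

omit [Finite G] in
theorem triv_irr : (Representation.trivial k G k).IsIrreducible where
  exists_pair_ne := ⟨⊥, ⊤, fun e => bot_ne_top (congrArg Subrepresentation.toSubmodule e)⟩
  eq_bot_or_eq_top W := (Ideal.eq_bot_or_top W.toSubmodule).imp
    (fun e => Subrepresentation.toSubmodule_injective e)
    fun e => Subrepresentation.toSubmodule_injective e

variable {Ω : Type} [Fintype Ω] [MulAction G Ω]

variable (k G Ω) in
/-- The constants inside the functions of sum zero. -/
noncomputable def cst : Submodule k (permSumZero k G Ω).toSubmodule :=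
  (permConstants k G Ω).toSubmodule.comap (permSumZero k G Ω).toSubmodule.subtype

variable (k G Ω) in
/-- The heart of the permutation module. -/
noncomputable def heart : Representation k G ((permSumZero k G Ω).toSubmodule ⧸ cst G k Ω) :=
  (permSumZero k G Ω).toRepresentation.quotient (cst G k Ω) fun g _ hv =>
    (permConstants k G Ω).apply_mem_toSubmodule g hv

omit [Finite G] in
theorem heart_mk (g : G) (v : (permSumZero k G Ω).toSubmodule) :
    heart G k Ω g (Submodule.Quotient.mk v) =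
      Submodule.Quotient.mk ((permSumZero k G Ω).toRepresentation g v) := rfl

omit [Finite G] in
theorem heart_ne {c : k[G]} (hc : IsIdempotentElem c) [Fintype G] (h0 : ∑ g, c.coeff g = 0)
    (h1 : (permRep k G Ω).asAlgebraHom c ≠ 0) : (heart G k Ω).asAlgebraHom c ≠ 0 := fun e => by
  refine h1 (LinearMap.ext fun v => ?_)
  set T := (permRep k G Ω).asAlgebraHom c with hT
  have i : ∀ w, T (T w) = T w := fun w => by
    rw [← Module.End.mul_apply, hT, ← map_mul, hc.eq]
  have a1 : T v ∈ (permSumZero k G Ω).toSubmodule := by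
    rw [Perm.mem_permSumZero_iff, hT, alg_apply]
    simp only [Finset.sum_apply, Pi.smul_apply, Perm.permRep_apply, smul_eq_mul]
    rw [Finset.sum_comm]
    simp only [← Finset.mul_sum]
    have : ∀ g : G, ∑ i, v (g⁻¹ • i) = ∑ i, v i := fun g =>
      Equiv.sum_comp (MulAction.toPerm g⁻¹) v
    simp only [this]
    rw [← Finset.sum_mul, h0, zero_mul]
  have a2 : (heart G k Ω).asAlgebraHom c (Submodule.Quotient.mk ⟨T v, a1⟩) = 0 := by
    rw [e, LinearMap.zero_apply]
  rw [alg_apply] at a2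
  replace a2 : (cst G k Ω).mkQ
      (∑ g, c.coeff g • (permSumZero k G Ω).toRepresentation g ⟨T v, a1⟩) = 0 := by
    rw [map_sum]; exact a2
  rw [Submodule.mkQ_apply, Submodule.Quotient.mk_eq_zero, cst, Submodule.mem_comap, map_sum] at a2
  have a3 : T (T v) ∈ (permConstants k G Ω).toSubmodule := by
    rw [hT, alg_apply]; exact a2
  obtain ⟨b, hb⟩ := (Perm.mem_permConstants_iff _).1 a3
  rw [← i, ← i, hT, alg_apply, ← hT]
  funext x
  simp only [Finset.sum_apply, Pi.smul_apply, Perm.permRep_apply, smul_eq_mul, hb]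
  rw [← Finset.sum_mul, h0, zero_mul]
  rfl

omit [Finite G] in
theorem heart_irr {p : ℕ} [Fact p.Prime] [CharP k p] [FaithfulSMul G Ω] [IsPretransitive G Ω]
    (hΩ : Fintype.card Ω = p) (hG : ¬ Group.IsSolvable G)
    (hn : Nontrivial ((permSumZero k G Ω).toSubmodule ⧸ cst G k Ω)) :
    (heart G k Ω).IsIrreducible where
  exists_pair_ne := ⟨⊥, ⊤, fun e => bot_ne_top (congrArg Subrepresentation.toSubmodule e)⟩
  eq_bot_or_eq_top W := by
    classical
    have := Perm.Neumann.isPretransitive_range (G := G) (Ω := Ω)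
    let W' : Subrepresentation (permRep k (toPermHom G Ω).range Ω) :=
      ⟨(W.toSubmodule.comap (cst G k Ω).mkQ).map (permSumZero k G Ω).toSubmodule.subtype, by
        rintro ⟨_, g, rfl⟩ _ ⟨v, hv, rfl⟩
        exact ⟨(permSumZero k G Ω).toRepresentation g v, W.apply_mem_toSubmodule g hv, rfl⟩⟩
    rcases Cfsg.Agent.S0674.result hΩ _ (Perm.Neumann.not_isSolvable_range hG) W' (fun v hv => by
      obtain ⟨b, hb⟩ := (Perm.mem_permConstants_iff _).1 hv
      have h1 : v ∈ (permSumZero k G Ω).toSubmodule := by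
        rw [Perm.mem_permSumZero_iff]
        simp [hb, hΩ]
      refine ⟨⟨v, h1⟩, ?_, rfl⟩
      have : (cst G k Ω).mkQ ⟨v, h1⟩ = 0 := (Submodule.Quotient.mk_eq_zero _).2 hv
      show (cst G k Ω).mkQ ⟨v, h1⟩ ∈ W.toSubmodule
      rw [this]; exact zero_mem _) (by rintro _ ⟨v, -, rfl⟩; exact v.2) with e | e
    · refine .inl (Subrepresentation.toSubmodule_injective ((Submodule.eq_bot_iff _).2
        fun w hw => ?_))
      obtain ⟨v, rfl⟩ := (cst G k Ω).mkQ_surjective w
      have : (v : Ω → k) ∈ W'.toSubmodule := ⟨v, hw, rfl⟩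
      rw [e] at this
      exact (Submodule.Quotient.mk_eq_zero _).2 this
    · refine .inr (Subrepresentation.toSubmodule_injective (Submodule.eq_top_iff'.2 fun w => ?_))
      obtain ⟨v, rfl⟩ := (cst G k Ω).mkQ_surjective w
      have : (v : Ω → k) ∈ W'.toSubmodule := by rw [e]; exact v.2
      obtain ⟨v', h1, h2⟩ := this
      rwa [← show v' = v from Subtype.ext h2]

end Alg

section Red

variable {G : Type*} [Group G] [Finite G] {M : Ideal AlgInt}

theorem ev_lift (X : IrrCharacter G) (c : (kM M)[G]) :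
    ev X (idemLift M c) = tv M (X : G → ℂ) 1 c := by
  rw [tv, ← one_def, one_mul]; rfl

theorem mu_redG {a : ℂ[G]} (ha : a ∈ OG M G) (hi : IsIdempotentElem a) (X : IrrCharacter G) :
    mu (idemLift M (redG M a)) X = mu a X := by
  unfold mu
  rw [ev_lift, tv_redG X.2.isClassFunction ha hi (one_mem _), ← one_def, one_mul]
  rfl

theorem mu_add (hk : HK G) {c d : (kM M)[G]} (hc : IsIdempotentElem c) (hd : IsIdempotentElem d)
    (h1 : c * d = 0) (h2 : d * c = 0) (X : IrrCharacter G) :
    mu (idemLift M (c + d)) X = mu (idemLift M c) X + mu (idemLift M d) X := by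
  have := tv_add (M := M) (h := 1) X.2.isClassFunction hc hd h1 h2 (one_mem _) (one_mem _)
  rw [← ev_lift, ← ev_lift, ← ev_lift, ← hk.mu_cast _ (idemLift_idem hc),
    ← hk.mu_cast _ (idemLift_idem hd),
    ← hk.mu_cast _ (idemLift_idem (hc.add hd (by rw [h1, h2, add_zero])))] at this
  exact_mod_cast this

theorem exists_prim (hk : HK G) (Y : IrrCharacter G) {j : (kM M)[G]} (hj : IsIdempotentElem j) :
    mu (idemLift M j) Y ≠ 0 → ∃ c, PrimIn (⊤ : Subalgebra (kM M) (kM M)[G]) c ∧
      mu (idemLift M c) Y ≠ 0 ∧ ∀ X, mu (idemLift M c) X ≤ mu (idemLift M j) X := by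
  refine idem_induction (S := ⊤) (fun j => mu (idemLift M j) Y ≠ 0 → ∃ c,
    PrimIn (⊤ : Subalgebra (kM M) (kM M)[G]) c ∧ mu (idemLift M c) Y ≠ 0 ∧
      ∀ X, mu (idemLift M c) X ≤ mu (idemLift M j) X) (fun h => absurd ?_ h)
    (fun j h1 h2 => ⟨j, h1, h2, fun _ => le_rfl⟩) (fun a _ b _ ha hb h1 h2 k1 k2 h => ?_) trivial hj
  · unfold mu
    rw [ev_lift, tv_zero Y.2.isClassFunction]
    simp
  · rw [mu_add hk ha hb h1 h2] at h
    by_cases e : mu (idemLift M a) Y = 0
    · obtain ⟨c, c1, c2, c3⟩ := k2 (by omega)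
      exact ⟨c, c1, c2, fun X => by rw [mu_add hk ha hb h1 h2]; exact (c3 X).trans le_add_self⟩
    · obtain ⟨c, c1, c2, c3⟩ := k1 e
      exact ⟨c, c1, c2, fun X => by rw [mu_add hk ha hb h1 h2]; exact (c3 X).trans le_self_add⟩

theorem aug_eq [Fintype G] (hk : HK G) {c : (kM M)[G]} (hc : IsIdempotentElem c) :
    ∑ g, c.coeff g = mu (idemLift M c) (triv G) := by
  rw [← redM_natCast, hk.mu_cast _ (idemLift_idem hc), ev, evalFn_apply]
  simp only [triv_apply, mul_one]
  rw [redM_sum fun g _ => mem_OG.1 (idemLift_mem hc) g]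
  conv_lhs => rw [← redG_idemLift hc]
  rfl

theorem triv_ne (hk : HK G) {c : (kM M)[G]} (hc : IsIdempotentElem c)
    (h : mu (idemLift M c) (triv G) = 1) :
    (Representation.trivial (kM M) G (kM M)).asAlgebraHom c ≠ 0 := fun e => by
  have := Fintype.ofFinite G
  have h1 := alg_apply (Representation.trivial (kM M) G (kM M)) c 1
  simp only [e, LinearMap.zero_apply, Representation.trivial_apply, smul_eq_mul, mul_one] at h1
  rw [aug_eq hk hc, h] at h1
  simp at h1

theorem perm_ne {Ω : Type} [Fintype Ω] [MulAction G Ω] {a : ℂ[G]} (ha : a ∈ OG M G)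
    (hi : IsIdempotentElem a) (h : evalFn (fun g => (Nat.card (fixedBy Ω g) : ℂ)) a ≠ 0) :
    (permRep (kM M) G Ω).asAlgebraHom (redG M a) ≠ 0 := fun e => by
  classical
  have := Fintype.ofFinite G
  set E : Matrix Ω Ω ℂ := LinearMap.toMatrix' ((permRep ℂ G Ω).asAlgebraHom a) with hE
  have h1 : ∀ i j, E i j = ∑ g, a.coeff g * if g⁻¹ • i = j then 1 else 0 := fun i j => by
    rw [hE, LinearMap.toMatrix'_apply, alg_apply]
    simp only [Finset.sum_apply, Pi.smul_apply, Perm.permRep_apply, smul_eq_mul, Pi.single_apply]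
  have h2 : ∀ (g : G) (i j : Ω), vM M (if g⁻¹ • i = j then 1 else 0) ≤ 1 := fun g i j => by
    split_ifs <;> simp
  have h3 : ∀ i j, vM M (E i j) ≤ 1 := fun i j => by
    rw [h1]; exact vM_sum_le_one fun g _ => vM_mul_le_one (mem_OG.1 ha g) (h2 g i j)
  have h4 := Pim.trace_eq_of_congr (M := M) (e := E) (f := 0)
    (by rw [hE, ← LinearMap.toMatrix'_mul, ← map_mul, hi.eq]) (by simp) h3 fun i j => by
      rw [Matrix.zero_apply, zero_sub, Valuation.map_neg, ← redM_eq_zero_iff (h3 i j), h1,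
        redM_sum fun g _ => vM_mul_le_one (mem_OG.1 ha g) (h2 g i j)]
      have k := congrFun (alg_apply (permRep (kM M) G Ω) (redG M a) (Pi.single j 1)) i
      simp only [e, LinearMap.zero_apply, Pi.zero_apply, Finset.sum_apply, Pi.smul_apply,
        Perm.permRep_apply, smul_eq_mul, Pi.single_apply, coeff_redG] at k
      rw [k]
      refine Finset.sum_congr rfl fun g _ => ?_
      rw [redM_mul (mem_OG.1 ha g) (h2 g i j)]
      split_ifs <;> simp
  refine h ?_
  rw [Matrix.trace_zero] at h4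
  rw [← h4, evalFn_apply, Matrix.trace]
  simp only [Matrix.diag_apply, h1]
  rw [Finset.sum_comm]
  refine Finset.sum_congr rfl fun g _ => ?_
  rw [← Finset.mul_sum, Finset.sum_boole, Nat.card_eq_fintype_card, Fintype.card_subtype]
  congr 3
  ext i
  simp only [Finset.mem_filter, Finset.mem_univ, true_and, mem_fixedBy, inv_smul_eq_iff]
  exact eq_comm

end Red

end KPa

namespace St

open KPa

variable {G : Type u} [Group G] [Finite G] {p q : ℕ} [Fact p.Prime] [Fact q.Prime]
  [MulAction G (ZMod p)] (S : St G p q)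

theorem Tree.eq {S : St G p q} (tr : S.Tree) {c : (kM S.M)[G]} (hc : S.Prim c) {d : ℤ}
    (hd : d = 1 ∨ d = -1) {X Y : IrrCharacter G} (hX : S.dl X = d) (hY : S.dl Y = d)
    (h1 : mu (idemLift S.M c) X ≠ 0) (h2 : mu (idemLift S.M c) Y ≠ 0) : X = Y := by
  classical
  by_contra e
  have h3 := (Finset.sum_le_sum_of_subset (s := {X, Y}) (f := fun X => mu (idemLift S.M c) X)
    (fun Z hZ => by
      rcases Finset.mem_insert.1 hZ with rfl | hZ
      · simpa using hX
      · rw [Finset.mem_singleton.1 hZ]; simpa using hY)).trans (tr c hc d hd)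
  rw [Finset.sum_pair e] at h3
  omega

theorem Tree.le {S : St G p q} (tr : S.Tree) {c : (kM S.M)[G]} (hc : S.Prim c) {d : ℤ}
    (hd : d = 1 ∨ d = -1) {X : IrrCharacter G} (hX : S.dl X = d) :
    mu (idemLift S.M c) X ≤ 1 := by
  classical
  exact (Finset.single_le_sum (f := fun X => mu (idemLift S.M c) X) (fun _ _ => Nat.zero_le _)
    (by simpa using hX)).trans (tr c hc d hd)

theorem kp (hk : HK G) (_g : S.KG) (a : S.KA) (b : S.KB) (tr : S.Tree) (uq : S.UQ) (re : S.RE) :
    S.KP where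
  p_one := by
    classical
    rintro V hV ⟨c, hc, h1, h2⟩
    obtain ⟨s1, s2, -, -⟩ := a.sub_A (triv S.H)
    obtain ⟨d, hd, d1, d2⟩ := exists_prim hk (triv G) (j := redG S.M (S.A (triv S.H)))
      (by rw [IsIdempotentElem, ← redG_mul s2 s2, s1.eq])
      (by rw [mu_redG s2 s1, b.mu_triv]; simp)
    have := triv_irr (G := G) (k := kM S.M)
    have e := uq _ (Representation.trivial (kM S.M) G (kM S.M)) c d hc hd
      (triv_ne hk hc.idem (by have := tr.le hc (.inl rfl) b.dl_triv; omega))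
      (triv_ne hk hd.idem (by have := tr.le hd (.inl rfl) b.dl_triv; omega)) V
    have h3 := d2 V
    rw [mu_redG s2 s1, b.mu_triv, ← e] at h3
    split_ifs at h3 with h4
    · refine h4.resolve_left ?_
      rintro rfl
      rw [b.dl_triv] at hV
      omega
    · omega
  p_chi := by
    rintro W W' hW hW' n n' ⟨c, hc, h1, h2⟩ ⟨d, hd, d1, d2⟩
    have := Fintype.ofFinite G
    have := charP_kM S.hM
    have := S.faith
    have : IsPretransitive G (ZMod p) := ⟨fun i j => by
      obtain ⟨i', hi⟩ := exists_ne i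
      obtain ⟨j', hj⟩ := exists_ne j
      exact (S.two i i' j j' hi.symm hj.symm).imp fun _ h => h.1⟩
    have key : ∀ {c W}, S.Prim c → S.dl W = 1 → W ≠ triv G → mu (idemLift S.M c) W ≠ 0 →
        mu (idemLift S.M c) S.chi ≠ 0 → (heart G (kM S.M) (ZMod p)).asAlgebraHom c ≠ 0 := by
      intro c W hc hW n h1 h2
      have h0 : mu (idemLift S.M c) (triv G) = 0 :=
        by_contra fun e => n (tr.eq hc (.inl rfl) hW b.dl_triv h1 e)
      refine heart_ne hc.idem (by rw [aug_eq hk hc.idem, h0, Nat.cast_zero]) ?_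
      rw [← redG_idemLift hc.idem]
      refine perm_ne (idemLift_mem hc.idem) (idemLift_idem hc.idem) ?_
      have e : (fun g : G => (Nat.card (fixedBy (ZMod p) g) : ℂ)) =
          (S.chi : G → ℂ) + (triv G : G → ℂ) := funext fun g => by
        rw [Pi.add_apply, S.hchi, triv_apply, sub_add_cancel]
      rw [e, evalFn_add_fun]
      show ev S.chi _ + ev (triv G) _ ≠ 0
      rw [← hk.mu_cast _ (idemLift_idem hc.idem), ← hk.mu_cast _ (idemLift_idem hc.idem), h0,
        Nat.cast_zero, add_zero]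
      exact_mod_cast h2
    have k1 := key hc hW n h1 h2
    have := heart_irr (k := kM S.M) (ZMod.card p) S.nsolv (by
      by_contra e
      rw [not_nontrivial_iff_subsingleton] at e
      exact k1 (LinearMap.ext fun _ => Subsingleton.elim _ _))
    have e := uq _ (heart G (kM S.M) (ZMod p)) c d hc hd k1 (key hd hW' n' d1 d2) W'
    exact tr.eq hc (.inl rfl) hW hW' h1 (e ▸ d1)
  p_E := by
    rintro V hV W W' hW hW' ⟨c, hc, h1, h2⟩ ⟨d, hd, d1, d2⟩
    obtain ⟨σ, s1, s2, -⟩ := re V hV
    have k1 := s2 _ (idemLift_mem hc.idem) (idemLift_idem hc.idem) h2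
    have k2 := s2 _ (idemLift_mem hd.idem) (idemLift_idem hd.idem) d2
    rw [redG_idemLift hc.idem] at k1
    rw [redG_idemLift hd.idem] at k2
    exact tr.eq hc (.inl rfl) hW hW' h1 (uq _ σ c d hc hd k1 k2 W' ▸ d1)
  p_bar := by
    rintro W V ⟨c, hc, h1, h2⟩
    have e : ∀ X, mu (idemLift S.M (iv c)) (barI X) = mu (idemLift S.M c) X := fun X => by
      have k : iv c = redG S.M (io (idemLift S.M c)) := by
        conv_lhs => rw [← redG_idemLift hc.idem]
        rfl
      rw [k, mu_redG (a := io _) (ofFun_mem_OG fun g => mem_OG.1 (idemLift_mem hc.idem) g⁻¹)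
        (by rw [IsIdempotentElem, ← hk.io_mul, (idemLift_idem hc.idem).eq]), b.mu_bar]
      exact congrArg (mu · X) (iv_iv _)
    exact ⟨iv c, prim_iv hc, by rw [e]; exact h1, by rw [e]; exact h2⟩

end St

end Cfsg.Lib.W4Q
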