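import Cfsg.Agent.W4Q.Defs
import Cfsg.Agent.PrimeOne.DegP
import Cfsg.Agent.S4503

/-!
# No exceptional characters occur in the character on ordered pairs
-/

set_option autoImplicit false

open scoped ComplexConjugate ComplexOrder MonoidAlgebra
open Cfsg Cfsg.Lib.Char Cfsg.Lib.Block Cfsg.Lib.Block.Princ Cfsg.Lib.Block.Idem Cfsg.Lib.PrimeOne
open MulAction Subgroup MonoidAlgebra

namespace Cfsg.Lib.W4Q

universe u

namespace St

variable {G : Type u} [Group G] [Finite G] {p q : ℕ} [Fact p.Prime] [Fact q.Prime]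
  [MulAction G (ZMod p)] (S : St G p q)

namespace KTx

variable {S}

theorem val_dl {X : IrrCharacter G} {d : ℤ} (h : S.Val X d) (hd : d = 1 ∨ d = -1 ∨ d = 0) :
    S.Val X (S.dl X) := by
  rcases hd with rfl | rfl | rfl
  · rwa [S.dl_eq_one.2 h]
  · rwa [S.dl_eq_neg_one.2 h]
  · rcases S.dl_cases X with e | e | e <;> rw [e]
    exacts [S.dl_eq_one.1 e, S.dl_eq_neg_one.1 e, h]

theorem order_pow (g : S.KG) {i : ℕ} (hi : ¬ p ∣ i) : orderOf (S.x ^ i) = p := by
  rw [Nat.Coprime.orderOf_pow, g.ox]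
  rw [g.ox]
  exact (Fact.out : p.Prime).coprime_iff_not_dvd.2 hi

theorem mu_eq (hk : HK G) {a : ℂ[G]} (ha : S.Sub a) {θ θ' : IrrCharacter G}
    (h : ∀ g : G, ¬ p ∣ orderOf g → (θ : G → ℂ) g = (θ' : G → ℂ) g) : mu a θ = mu a θ' := by
  have := Fintype.ofFinite G
  have h1 : ev θ a = ev θ' a := by
    rw [ev, ev, ← Pim.classInner_pc_irr, ← Pim.classInner_pc_irr, classInner, classInner]
    congr 1
    refine Finset.sum_congr rfl fun g _ => ?_
    by_cases hg : p ∣ orderOf g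
    · rw [Pim.pc_eq_zero S.hM ha.2.1 ha.1 hg, zero_mul, zero_mul]
    · rw [h g hg]
  rw [mu, mu, h1]

theorem nv_add (g : S.KG) (n : S.KN) {θ θ' : IrrCharacter G}
    (h : ∀ g : G, ¬ p ∣ orderOf g → (θ : G → ℂ) g = (θ' : G → ℂ) g) (j : ZMod q) :
    S.nv θ j + S.nv θ' 0 = S.nv θ' j + S.nv θ 0 := by
  have hq := (Fact.out : q.Prime).pos
  have hpq := S.hpq
  have h1 : S.nC θ j + S.nC θ' 0 = S.nC θ' j + S.nC θ 0 := by
    simp only [nC, ← mul_add, ← Finset.sum_add_distrib]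
    congr 1
    refine Finset.sum_congr rfl fun i _ => Finset.sum_congr rfl fun k hk => ?_
    by_cases k0 : k = 0
    · simp only [k0, Nat.cast_zero, mul_zero]
      ring
    · have h2 : ¬ q ∣ k := fun e => by
        have := Nat.le_of_dvd (Nat.pos_of_ne_zero k0) e
        have := Finset.mem_range.1 hk
        omega
      rw [h _ fun e => ?_]
      obtain ⟨c, hc⟩ := isConj_iff.1 (g.conj_xy i k h2)
      have h3 : orderOf (S.x ^ i * S.y ^ k) = orderOf (S.y ^ k) := by
        rw [← hc]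
        exact orderOf_injective (MulAut.conj c).toMonoidHom (MulAut.conj c).injective _
      rw [h3] at e
      have := Nat.le_of_dvd hq (g.oy ▸ e.trans (orderOf_pow_dvd k))
      omega
  rw [← n.nv_cast, ← n.nv_cast, ← n.nv_cast, ← n.nv_cast] at h1
  exact_mod_cast h1

theorem not_deg (g : S.KG) {θ : IrrCharacter G} (h1 : θ ≠ triv G) (h2 : ¬ p ^ 2 ∣ Nat.card G) :
    deg θ ≠ q := by
  intro e
  have hp : p.Prime := Fact.out
  have hq := (Fact.out : q.Prime).pos
  have hpq := S.hpq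
  have := S.simple
  have h3 := Cfsg.Agent.S4503.result p hp (g.cardH ▸ dvd_mul_right _ _) h2 (fun H hH hc => ?_)
    θ θ.2.isCharacter fun x hx =>
      θ.2.eq_one_of_apply_eq_of_isSimpleGroup (fun k => h1 (eq_triv_iff.2 k)) hx
  · change p ≤ 2 * deg θ + 1 at h3
    omega
  · rcases hH.eq_bot_or_eq_top with rfl | rfl
    · rw [card_bot] at hc
      omega
    · rw [card_top] at hc
      have := isCyclic_of_prime_card hc
      exact S.nsolv inferInstance

end KTx

open KTx in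
theorem kt (hk : HK G) (g : S.KG) (a : S.KA) (b : S.KB) (n : S.KN) : S.KT := by
  classical
  intro X0 h0
  have hp : p.Prime := Fact.out
  have hq : q.Prime := Fact.out
  have hpq := S.hpq
  obtain ⟨P, hP⟩ := g.syl
  have hc : Nat.card P = p := by
    rw [← hP, Nat.card_zpowers, g.ox]
  have hsq := PrimeOne.not_sq_dvd hc
  by_cases hd : p ∣ deg X0
  · exact val_dl (d := 0) (fun i hi => by
      rw [apply_eq_zero_of_dvd_degree hp hsq X0 hd (by rw [order_pow g hi]), Int.cast_zero])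
      (.inr (.inr rfl))
  have hB := mem_principalBlock_of_not_dvd hc (by rw [← hP, g.cent']) S.hM hd
  obtain ⟨t, X, Y, δ, ε, h⟩ := exists_B0 S.hM P hc
  rw [← hP, g.cent', g.idx] at h
  rcases (h.union X0).1 hB with hX | hY
  · exact val_dl (d := δ X0) (fun i hi => h.val_X X0 hX _ (by rw [order_pow g hi]))
      (by have := h.sign_X X0 hX; tauto)
  exfalso
  have ht : Y.card = 4 := by
    have h1 := h.card_eq
    rw [factorization_eq_one hc, pow_one, hpq, ← h.card_Y] at h1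
    have h2 : q * Y.card = q * 4 := by omega
    exact Nat.eq_of_mul_eq_mul_left hq.pos h2
  obtain ⟨c, hs, hc0, hc2⟩ : ∃ c, S.Sub c ∧ mu c X0 ≠ 0 ∧ ∀ j, ∑ X, mu c X * S.nv X j = 2 := by
    by_cases e : mu S.B X0 = 0
    · exact ⟨_, a.sub_Bm, fun e' => h0 (by rw [b.mu_B, e, e']), n.n_Bm⟩
    · exact ⟨_, a.sub_B, e, n.n_B⟩
  have h2 : ∀ j, ∑ θ ∈ Y, S.nv θ j ≤ 2 := fun j => by
    rw [← hc2 j]
    refine le_trans (Finset.sum_le_sum fun θ hθ => ?_)
      (Finset.sum_le_sum_of_subset (Finset.subset_univ Y))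
    rw [mu_eq hk hs (h.agree_Y θ hθ X0 hY)]
    exact Nat.le_mul_of_pos_left _ (Nat.pos_of_ne_zero hc0)
  obtain ⟨θ₀, hθ₀, hmin⟩ := Y.exists_min_image (fun θ => S.nv θ 0) ⟨X0, hY⟩
  have h3 : ∀ j, S.nv θ₀ j = 0 := fun j => by
    have h4 : Y.card • S.nv θ₀ j ≤ ∑ θ ∈ Y, S.nv θ j :=
      Finset.card_nsmul_le_sum _ _ _ fun θ hθ => by
        have := nv_add g n (h.agree_Y θ hθ θ₀ hθ₀) j
        have := hmin θ hθ
        omega
    have := h2 j
    rw [ht, smul_eq_mul] at h4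
    omega
  have h4 : ∀ θ ∈ Y, ∑ j, (S.nv θ j : ℂ) = q * S.nv θ 0 := fun θ hθ => by
    rw [Finset.sum_congr rfl fun j _ => show (S.nv θ j : ℂ) = S.nv θ 0 by
      have := nv_add g n (h.agree_Y θ hθ θ₀ hθ₀) j
      rw [h3, h3] at this
      exact_mod_cast (by omega : S.nv θ j = S.nv θ 0)]
    rw [Finset.sum_const, Finset.card_univ, ZMod.card, nsmul_eq_mul]
  have h5 : (p : ℂ) * (q * (∑ θ ∈ Y, S.nv θ 0 : ℕ)) = 4 * deg X0 - 4 * q * ε := by
    have e1 : ∑ θ ∈ Y, (p : ℂ) * (q * S.nv θ 0) =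
        ∑ θ ∈ Y, ∑ i ∈ Finset.range p, (θ : G → ℂ) (S.x ^ i) :=
      Finset.sum_congr rfl fun θ hθ => by rw [← h4 θ hθ, n.sum_nv]
    have e2 : ∑ i ∈ Finset.range (4 * q), ∑ θ ∈ Y, (θ : G → ℂ) (S.x ^ (i + 1)) =
        ∑ i ∈ Finset.range (4 * q), -(ε : ℂ) := Finset.sum_congr rfl fun i hi =>
      h.sum_Y _ (by
        rw [order_pow g fun e => ?_]
        have := Nat.le_of_dvd (by omega) e
        have := Finset.mem_range.1 hi
        omega)
    have e3 : Finset.range p = Finset.range (4 * q + 1) := by rw [← hpq]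
    rw [Finset.sum_comm, e3, Finset.sum_range_succ', e2, pow_zero,
      h.sum_Y_regular hY h.not_dvd_one, ← h.card_Y, ht, ← deg_cast, ← Finset.mul_sum,
      ← Finset.mul_sum] at e1
    rw [Nat.cast_sum, e1, Finset.sum_const, Finset.card_range]
    simp only [nsmul_eq_mul]
    push_cast
    ring
  have h6 : (p : ℤ) * (q * (∑ θ ∈ Y, S.nv θ 0 : ℕ)) = 4 * deg X0 - 4 * q * ε := by
    exact_mod_cast h5
  have h7 := h2 0
  generalize (∑ θ ∈ Y, S.nv θ 0) = C at h6 h7
  have hodd : q % 2 = 1 := hq.eq_two_or_odd.resolve_left fun e => by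
    rw [e] at hpq
    rw [hpq] at hp
    norm_num at hp
  have h8 := deg_pos X0
  have h9 : (p : ℤ) * (q * C) = 4 * (q * (q * C)) + q * C := by
    rw [hpq]; push_cast; ring
  refine not_deg g (h.ne_triv hY) hsq ?_
  have hC : C = 0 := by
    rw [h9] at h6
    generalize (q : ℤ) * (q * C) = r at h6
    rcases h.sign with rfl | rfl <;> interval_cases C <;> omega
  rw [hC, Nat.cast_zero, mul_zero, mul_zero] at h6
  rcases h.sign with rfl | rfl <;> omega

end St

end Cfsg.Lib.W4Q
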