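import Cfsg.Agent.W4Q.Defs

/-!
# The reduction of a character of degree `p - 1`
-/

set_option autoImplicit false

open scoped ComplexConjugate ComplexOrder MonoidAlgebra
open Cfsg Cfsg.Lib.Char Cfsg.Lib.Block Cfsg.Lib.Block.Princ Cfsg.Lib.Block.Idem Cfsg.Lib.PrimeOne
open MulAction Subgroup MonoidAlgebra

namespace Cfsg.Lib.W4Q

universe u

namespace REx

open Module IsLocalRing Matrix

theorem asAlg_sum {G k V : Type*} [Group G] [Fintype G] [Field k] [AddCommGroup V] [Module k V]
    (ρ : Representation k G V) (a : k[G]) : ρ.asAlgebraHom a = ∑ g, a.coeff g • ρ g := by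
  conv_lhs => rw [eq_sum_single a]
  rw [map_sum]
  exact Finset.sum_congr rfl fun g _ => Representation.asAlgebraHom_single _ _ _

/-- Reduction of an irreducible character. -/
theorem exists_red (M : Ideal AlgInt) {G : Type*} [Group G] [Finite G] {χ : G → ℂ}
    (hχ : IsIrrCharacter G χ) {n : ℕ} (hn : χ 1 = n) :
    ∃ σ : Representation (kM M) G (Fin n → kM M),
      (∀ a ∈ OG M G, IsIdempotentElem a → evalFn χ a ≠ 0 → σ.asAlgebraHom (redG M a) ≠ 0) ∧
      (∀ (H : Subgroup G) [Fintype H], ∑ x : H, χ x = 0 → ∑ x : H, σ x = 0) ∧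
      ∀ [Fintype G], fsInd χ = 1 →
        ∃ β : (Fin n → kM M) →ₗ[kM M] (Fin n → kM M) →ₗ[kM M] kM M,
          β ≠ 0 ∧ (∀ v w, β v w = β w v) ∧ ∀ g v w, β (σ g v) (σ g w) = β v w := by
  classical
  obtain ⟨m, ρ, -, hρ⟩ := id hχ
  obtain ⟨b, hb⟩ := exists_integral_basis (OM M) ρ
  have hmn : finrank ℂ (Fin m → ℂ) = n := by
    rw [← hρ, Representation.char_one] at hn
    exact_mod_cast hn
  subst hmn
  let n := finrank ℂ (Fin m → ℂ)
  let A : G → Matrix (Fin n) (Fin n) (OM M) := fun g i j => ⟨_, hb g i j⟩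
  have hA : ∀ g, (OM M).subtype.mapMatrix (A g) = LinearMap.toMatrix b b (ρ g) :=
    fun g => rfl
  have hinj : Function.Injective ((OM M).subtype.mapMatrix (m := Fin n)) :=
    Matrix.map_injective Subtype.val_injective
  let A' : G →* Matrix (Fin n) (Fin n) (OM M) :=
    { toFun := A
      map_one' := hinj (by rw [hA, map_one ρ, LinearMap.toMatrix_one, map_one])
      map_mul' := fun g h => hinj (by
        rw [map_mul _ (A g), hA, hA, hA, map_mul ρ, LinearMap.toMatrix_mul]) }
  let r := (residue (OM M)).mapMatrix (m := Fin n)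
  let ρ' : Representation ℂ G (Fin n → ℂ) := ((Matrix.toLinAlgEquiv' (R := ℂ)
    (n := Fin n)).toMonoidHom.comp ((OM M).subtype.mapMatrix (m := Fin n)).toMonoidHom).comp A'
  have hρ' : ∀ g, LinearMap.toMatrix' (ρ' g) = (OM M).subtype.mapMatrix (A g) := fun g =>
    LinearMap.toMatrix'_toLin' _
  have hch : ρ'.character = χ := funext fun g => by
    rw [Char.character_eq_matrix_trace, hρ', hA, ← hρ, Representation.character,
      LinearMap.trace_eq_matrix_trace ℂ b]
  let σ : Representation (kM M) G (Fin n → kM M) :=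
    ((Matrix.toLinAlgEquiv' (R := kM M) (n := Fin n)).toMonoidHom.comp r.toMonoidHom).comp A'
  have hσ : ∀ g, LinearMap.toMatrix' (σ g) = r (A g) := fun g => LinearMap.toMatrix'_toLin' _
  refine ⟨σ, fun a ha hi h0 h => h0 ?_, fun H _ h => ?_, fun h1 => ?_⟩
  · have := Fintype.ofFinite G
    have hE : ∀ i j, LinearMap.toMatrix' (ρ'.asAlgebraHom a) i j =
        ∑ g, a.coeff g * (A g i j : ℂ) := fun i j => by
      rw [asAlg_sum, map_sum, Matrix.sum_apply]
      refine Finset.sum_congr rfl fun g _ => ?_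
      rw [map_smul, hρ']
      rfl
    have hR : ∀ i j, LinearMap.toMatrix' (σ.asAlgebraHom (redG M a)) i j =
        ∑ g, redM M (a.coeff g * (A g i j : ℂ)) := fun i j => by
      rw [asAlg_sum, map_sum, Matrix.sum_apply]
      refine Finset.sum_congr rfl fun g _ => ?_
      rw [map_smul, hσ, redM_mul (ha g) (vM_coe_le_one _), redM_coe]
      rfl
    have hle : ∀ i j, ∀ g ∈ (Finset.univ : Finset G), vM M (a.coeff g * (A g i j : ℂ)) ≤ 1 :=
      fun i j g _ => vM_mul_le_one (ha g) (vM_coe_le_one _)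
    have h2 := Pim.trace_eq_of_congr (M := M) (e := 0)
      (f := LinearMap.toMatrix' (ρ'.asAlgebraHom a)) (mul_zero _)
      (by rw [← LinearMap.toMatrix'_mul, ← map_mul, hi.eq]) (fun i j => by simp) fun i j => by
        rw [Matrix.zero_apply, sub_zero, hE, ← redM_eq_zero_iff (vM_sum_le_one (hle i j)),
          redM_sum (hle i j), ← hR, h, map_zero, Matrix.zero_apply]
    rw [← hch, evalFn_rep, LinearMap.trace_eq_matrix_trace ℂ (Pi.basisFun ℂ (Fin n)),
      LinearMap.toMatrix_eq_toMatrix', ← h2, Matrix.trace_zero]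
  · have h1 := sum_rep_eq_zero ρ' H (hch ▸ h)
    have h2 : ∑ x : H, A x = 0 := hinj (by
      rw [map_sum, map_zero, ← (LinearMap.toMatrix' (R := ℂ)).map_zero, ← h1, map_sum]
      exact Finset.sum_congr rfl fun x _ => (hρ' x).symm)
    change ∑ x : H, Matrix.toLinAlgEquiv' (r (A x)) = 0
    rw [← map_sum, ← map_sum, h2, map_zero, map_zero]
  have hre : ∀ g, (χ g).im = 0 := by
    by_contra k
    push Not at k
    rw [hχ.fsInd_eq_zero_iff.2 k] at h1
    exact zero_ne_one h1
  obtain ⟨⟨C, hC0, hC⟩, hs⟩ := Char.invariant_form ρ' (hch ▸ hχ) (hch ▸ hre)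
  have hCT : Cᵀ = C := by rw [hs C hC, hch, h1, one_smul]
  obtain ⟨i, hi, hi'⟩ := exists_div_mem (OM M) (fun t : Fin n × Fin n => C t.1 t.2) fun h =>
    hC0 (Matrix.ext fun j k => congrFun h (j, k))
  let C' : Matrix (Fin n) (Fin n) (OM M) := fun j k => ⟨_, hi' (j, k)⟩
  have hC' : (OM M).subtype.mapMatrix C' = (C i.1 i.2)⁻¹ • C :=
    Matrix.ext fun j k => div_eq_inv_mul _ _
  have hinv : ∀ g, (A g)ᵀ * C' * A g = C' := fun g => hinj (by
    rw [map_mul, map_mul, hC', RingHom.mapMatrix_apply, Matrix.transpose_map,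
      ← RingHom.mapMatrix_apply, ← hρ', Matrix.mul_smul, Matrix.smul_mul, hC])
  have hT : C'ᵀ = C' := hinj (by
    rw [RingHom.mapMatrix_apply, Matrix.transpose_map, ← RingHom.mapMatrix_apply, hC',
      Matrix.transpose_smul, hCT])
  have hT' : (r C')ᵀ = r C' := by
    conv_rhs => rw [← hT]
    rfl
  refine ⟨Matrix.toLinearMap₂' (kM M) (r C'), fun h => ?_, fun v w => ?_, fun g v w => ?_⟩
  · have h1 : r C' = 0 := (Matrix.toLinearMap₂' (kM M)).map_eq_zero_iff.1 h
    have h2 : C' i.1 i.2 = 1 := Subtype.ext (div_self hi)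
    have h3 : residue (OM M) (C' i.1 i.2) = 0 := congrFun (congrFun h1 i.1) i.2
    rw [h2, map_one] at h3
    exact one_ne_zero h3
  · rw [Matrix.toLinearMap₂'_apply', Matrix.toLinearMap₂'_apply', Matrix.dotProduct_mulVec,
      ← Matrix.mulVec_transpose, hT', dotProduct_comm]
  · change Matrix.toLinearMap₂' (kM M) (r C') (r (A g) *ᵥ v) (r (A g) *ᵥ w) = _
    rw [Matrix.toLinearMap₂'_apply', Matrix.toLinearMap₂'_apply', Matrix.mulVec_mulVec,
      ← Matrix.vecMul_transpose, Matrix.dotProduct_mulVec, Matrix.vecMul_vecMul,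
      ← Matrix.dotProduct_mulVec]
    conv_rhs => rw [← hinv g, map_mul, map_mul, Matrix.mul_assoc]
    rfl

theorem sum_eq_zero {G : Type*} [Group G] [Finite G] (X : IrrCharacter G) (H : Subgroup G)
    [Fintype H] (h : ev X (av H) = 0) : ∑ x : H, (X : G → ℂ) x = 0 := by
  classical
  have := Fintype.ofFinite G
  have hc : (Nat.card H : ℂ)⁻¹ ≠ 0 := inv_ne_zero (by exact_mod_cast Nat.card_pos.ne')
  rw [ev, evalFn_apply] at h
  simp only [av, coeff_ofFun, ite_mul, zero_mul] at h
  rw [← Finset.sum_filter, ← Finset.mul_sum, mul_eq_zero] at h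
  rw [← h.resolve_left hc]
  exact (Finset.sum_subtype _ (fun x => by simp) _).symm

end REx

namespace St

variable {G : Type u} [Group G] [Finite G] {p q : ℕ} [Fact p.Prime] [Fact q.Prime]
  [MulAction G (ZMod p)] (S : St G p q)

theorem re (hk : HK G) (g : S.KG) (a : S.KA) (b : S.KB) : S.RE := by
  classical
  intro V hV
  obtain ⟨hd, -, hne⟩ := (Finset.mem_filter.1 hV).2
  have hq := (Fact.out : q.Prime).pos
  have hpq := S.hpq
  have := S.simple
  have := charP_kM S.hM
  have := Fintype.ofFinite S.H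
  obtain ⟨σ, h1, hσ, h3⟩ := REx.exists_red S.M V.2 (n := 4 * q) (by rw [← deg_cast, hd])
  have ht : V ≠ triv G := fun e => by
    rw [e, deg_triv] at hd
    omega
  replace hσ := hσ S.H (REx.sum_eq_zero V S.H (by
    rw [← hk.mu_cast _ (hk.av_idem _), ← a.A_triv, b.mu_triv, if_neg (not_or.2 ⟨ht, hne⟩),
      Nat.cast_zero]))
  refine ⟨σ, ?_, fun c hc hi h0 => h1 c hc hi fun e => h0 ?_, h3⟩
  swap
  · have := hk.mu_cast c hi V
    rw [ev, e] at this
    exact_mod_cast this
  have key : ∀ (W : Type) [AddCommGroup W] [Module (kM S.M) W] [FiniteDimensional (kM S.M) W]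
      [Nontrivial W] (τ : Representation (kM S.M) G W), Module.finrank (kM S.M) W ≤ 2 * q →
      ∑ z : S.H, τ z = 0 → False := by
    intro W _ _ _ _ τ hW hτ
    have := g.small W τ (TI.ne_one_of_sum g.gen τ S.H g.ndvd hτ)
    omega
  have hd' : Module.finrank (kM S.M) (Fin (4 * q) → kM S.M) = 4 * q := by simp
  have hnt : Nontrivial (Subrepresentation σ) := by
    have : Nonempty (Fin (4 * q)) := ⟨⟨0, by omega⟩⟩
    refine ⟨⊥, ⊤, fun h => ?_⟩
    exact bot_ne_top (congrArg Subrepresentation.toSubmodule h : (⊥ : Submodule _ _) = ⊤)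
  refine { eq_bot_or_eq_top := fun U => ?_ }
  by_contra hU
  rw [not_or] at hU
  have h1 : U.toSubmodule ≠ ⊥ := fun h => hU.1 (Subrepresentation.toSubmodule_injective h)
  have h2 : U.toSubmodule ≠ ⊤ := fun h => hU.2 (Subrepresentation.toSubmodule_injective h)
  have d2 := U.toSubmodule.finrank_quotient_add_finrank
  by_cases h3 : Module.finrank (kM S.M) U.toSubmodule ≤ 2 * q
  · have := Submodule.nontrivial_iff_ne_bot.2 h1
    refine key _ U.toRepresentation h3 (LinearMap.ext fun v => Subtype.ext ?_)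
    rw [LinearMap.sum_apply, Submodule.coe_sum]
    exact (LinearMap.sum_apply _ (fun z : S.H => σ z) (v : Fin (4 * q) → kM S.M)).symm.trans
      (LinearMap.congr_fun hσ v)
  · have := Submodule.Quotient.nontrivial_iff.2 h2
    refine key _ (σ.quotient U.toSubmodule U.apply_mem_toSubmodule) (by omega)
      (LinearMap.ext fun v => ?_)
    obtain ⟨v, rfl⟩ := U.toSubmodule.mkQ_surjective v
    have h4 := congrArg U.toSubmodule.mkQ (LinearMap.congr_fun hσ v)
    rw [LinearMap.sum_apply, map_sum] at h4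
    rw [LinearMap.sum_apply]
    exact h4

end St

end Cfsg.Lib.W4Q
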