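import Cfsg.Agent.W4Q.Defs
import Cfsg.Agent.Block.LatHom
import Mathlib.RingTheory.Polynomial.Cyclotomic.Expand

/-!
# A projective indecomposable character has at most one constituent of each sign
-/

set_option autoImplicit false

open scoped ComplexConjugate ComplexOrder MonoidAlgebra
open Cfsg Cfsg.Lib.Char Cfsg.Lib.Block Cfsg.Lib.Block.Princ Cfsg.Lib.Block.Idem Cfsg.Lib.PrimeOne
open MulAction Subgroup MonoidAlgebra

namespace Cfsg.Lib.W4Q

universe u

namespace TreeAux

open Module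

theorem finrank_map_add {K A B : Type*} [Field K] [AddCommGroup A] [Module K A] [AddCommGroup B]
    [Module K B] [FiniteDimensional K A] (f : A →ₗ[K] B) (S : Submodule K A)
    (h : LinearMap.ker f ≤ S) :
    finrank K (S.map f) + finrank K (LinearMap.ker f) = finrank K S := by
  have h1 := LinearMap.finrank_range_add_finrank_ker (f.domRestrict S)
  rw [LinearMap.range_domRestrict, LinearMap.ker_domRestrict,
    (Submodule.comapSubtypeEquivOfLe h).finrank_eq] at h1
  exact h1

theorem geom_eq {K A : Type*} [Field K] [Ring A] [Algebra K A] (p : ℕ) [hp : Fact p.Prime]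
    [CharP K p] (y : A) : ∑ i ∈ Finset.range p, y ^ i = (y - 1) ^ (p - 1) := by
  have h := Polynomial.cyclotomic_mul_prime_eq_pow_of_not_dvd K (p := p) (n := 1)
    fun h => hp.out.ne_one (Nat.dvd_one.1 h)
  rw [one_mul, Polynomial.cyclotomic_prime, Polynomial.cyclotomic_one] at h
  simpa using congrArg (Polynomial.aeval y) h

variable {G : Type*} [Group G] [Finite G] (M : Ideal AlgInt)

/-- The reduction of the integral elements of a subspace. -/
def red (S : Submodule ℂ ℂ[G]) : Submodule (kM M) (kM M)[G] where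
  carrier := {r | ∃ b ∈ S, b ∈ OG M G ∧ redG M b = r}
  add_mem' := by
    rintro _ _ ⟨a, ha, ha', rfl⟩ ⟨b, hb, hb', rfl⟩
    exact ⟨a + b, add_mem ha hb, add_mem ha' hb', redG_add ha' hb'⟩
  zero_mem' := ⟨0, zero_mem _, zero_mem _, redG_zero⟩
  smul_mem' := by
    rintro c _ ⟨a, ha, ha', rfl⟩
    exact ⟨liftM M c • a, S.smul_mem _ ha, smul_mem_OG (vM_liftM_le_one c) ha', by
      rw [redG_smul (vM_liftM_le_one c) ha', redM_liftM]⟩

/-- The coefficients as a column. -/
noncomputable def cm (K : Type*) [Field K] (G : Type*) [Group G] [Finite G] :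
    K[G] ≃ₗ[K] Matrix G Unit K where
  toFun a := fun g _ => a.coeff g
  invFun m := ofFun fun g => m g ()
  map_add' _ _ := rfl
  map_smul' _ _ := rfl
  left_inv a := ofFun_coeff a
  right_inv m := by
    funext g t
    exact coeff_ofFun _ g

theorem finrank_red (S : Submodule ℂ ℂ[G]) : finrank (kM M) (red M S) = finrank ℂ S := by
  have := Fintype.ofFinite G
  apply le_antisymm
  · let b := finBasis (kM M) (red M S)
    choose s hs hO hr using fun i => (b i).2
    have h1 : LinearIndependent ℂ fun j g => (s j).coeff g := by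
      refine Mod.linearIndependent_of_redM (M := M) _ hO ?_
      simp only [← coeff_redG, hr]
      have h2 := b.linearIndependent
      rw [Fintype.linearIndependent_iff] at h2 ⊢
      refine fun c hc => h2 c (Subtype.ext (galg_ext fun g => ?_))
      simpa [coeff_sum_apply, coeff_smul_apply'] using congrFun hc g
    have h3 : LinearIndependent ℂ fun j => (⟨s j, hs j⟩ : S) := by
      rw [Fintype.linearIndependent_iff] at h1 ⊢
      refine fun c hc => h1 c (funext fun g => ?_)
      simpa [coeff_sum_apply, coeff_smul_apply'] using congrArg (fun x : S => x.1.coeff g) hc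
    simpa using h3.fintype_card_le_finrank
  · obtain ⟨v, hv, hv'⟩ := Lat.exists_red_indep (OM M) (finrank ℂ S)
      (S.map (cm ℂ G).toLinearMap) (LinearEquiv.finrank_map_eq _ _).ge
    have h1 : ∀ i, (cm (kM M) G).symm ((v i).map (IsLocalRing.residue (OM M))) ∈ red M S := by
      intro i
      obtain ⟨b, hb, hb'⟩ := hv i
      have h2 : ∀ g, b.coeff g = v i g () := fun g => congrFun (congrFun hb' g) ()
      refine ⟨b, hb, fun g => h2 g ▸ vM_coe_le_one _, galg_ext fun g => ?_⟩
      rw [coeff_redG, h2, redM_coe]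
      exact (coeff_ofFun (fun g => IsLocalRing.residue (OM M) (v i g ())) g).symm
    have h3 : LinearIndependent (kM M) fun i => (⟨_, h1 i⟩ : red M S) :=
      LinearIndependent.of_comp (red M S).subtype
        (hv'.map' (cm (kM M) G).symm.toLinearMap (LinearEquiv.ker _))
    simpa using h3.fintype_card_le_finrank

/-- Left multiplication on a cyclic module. -/
noncomputable def qrep {k : Type*} [Field k] (J : Submodule k[G] k[G]) :
    Representation k G (k[G] ⧸ J) :=
  (Algebra.lsmul k k (k[G] ⧸ J) (A := k[G])).toMonoidHom.comp (of k G)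

omit [Finite G] in
theorem qrep_eq {k : Type*} [Field k] (J : Submodule k[G] k[G]) (g : G) :
    qrep J g = Algebra.lsmul k k (k[G] ⧸ J) (single g (1 : k)) := rfl

theorem local_end {k : Type*} [Field k] [IsAlgClosed k] (J : Submodule k[G] k[G]) {c : k[G]}
    (hc : PrimIn (⊤ : Subalgebra k k[G]) c) (h1 : 1 - c ∈ J) (F : Module.End k (k[G] ⧸ J))
    (hF : ∀ g, qrep J g * F = F * qrep J g) : ∃ s : k, IsNilpotent (F - s • 1) := by
  have h2 : ∀ (b : k[G]) v, F (b • v) = b • F v := by
    intro b v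
    induction b using MonoidAlgebra.induction_linear with
    | zero => simp
    | add x y hx hy => rw [add_smul, map_add, hx, hy, add_smul]
    | single g r =>
      have h3 : F (single g (1 : k) • v) = single g (1 : k) • F v :=
        (LinearMap.congr_fun (hF g) v).symm
      rw [show single g r = r • single g (1 : k) by simp, smul_assoc, map_smul, h3, smul_assoc]
  have h3 : ∀ b : k[G], J.mkQ (b * c) = J.mkQ b := fun b => by
    rw [eq_comm, ← sub_eq_zero, ← map_sub, Submodule.mkQ_apply, Submodule.Quotient.mk_eq_zero]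
    simpa [mul_sub] using J.smul_mem b h1
  obtain ⟨w, hw⟩ := J.mkQ_surjective (F (J.mkQ 1))
  have h4 : ∀ b : k[G], F (J.mkQ b) = J.mkQ (b * (c * w * c)) := fun b => by
    rw [← h3 b, ← mul_assoc, ← mul_assoc, h3 (b * c * w), ← smul_eq_mul (b * c) w, map_smul, hw,
      ← h2, ← map_smul, smul_eq_mul, mul_one]
  obtain ⟨s, N, hN⟩ := hc.exists_scalar (z := c * w * c) Algebra.mem_top
    (by rw [← mul_assoc, ← mul_assoc, hc.idem.eq]) (by rw [mul_assoc _ c c, hc.idem.eq])
  have h5 : ∀ (n : ℕ) (b : k[G]),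
      ((F - s • 1) ^ n) (J.mkQ b) = J.mkQ (b * (c * w * c - s • c) ^ n) := by
    intro n
    induction n with
    | zero => simp
    | succ n ih =>
      intro b
      rw [pow_succ', Module.End.mul_apply, ih, pow_succ, ← mul_assoc, mul_sub, map_sub, ← h4,
        mul_smul_comm, LinearMap.map_smul_of_tower, h3]
      rfl
  refine ⟨s, N, LinearMap.ext fun v => ?_⟩
  obtain ⟨b, rfl⟩ := J.mkQ_surjective v
  rw [h5, hN, mul_zero, map_zero, LinearMap.zero_apply]

/-- The elements `b` with `y b a = 0`. -/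
noncomputable def ann (y a : ℂ[G]) : Submodule ℂ ℂ[G] := LinearMap.ker (Pim.lr y a)

omit [Finite G] in
theorem mem_ann {y a b : ℂ[G]} : b ∈ ann y a ↔ y * (b * a) = 0 := Iff.rfl

/-- The reduction of the left annihilator. -/
noncomputable def JJ (a : ℂ[G]) : Submodule (kM M)[G] (kM M)[G] where
  carrier := red M (ann 1 a)
  add_mem' := add_mem
  zero_mem' := zero_mem _
  smul_mem' := by
    rintro c _ ⟨b, hb, hb', rfl⟩
    refine ⟨liftG M c * b, ?_, mul_mem (liftG_mem_OG c) hb', by
      rw [redG_mul (liftG_mem_OG c) hb', redG_liftG, smul_eq_mul]⟩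
    rw [mem_ann, one_mul] at hb ⊢
    rw [mul_assoc, hb, mul_zero]

/-- The idempotent of the eigenvalue one. -/
noncomputable def ee (p : ℕ) (z : ℂ[G]) : ℂ[G] := (p : ℂ)⁻¹ • ∑ i ∈ Finset.range p, z ^ i

omit [Finite G] in
theorem ee_mul {p : ℕ} (hp : p ≠ 0) {z b : ℂ[G]} (h : (z - 1) * b = 0) : ee p z * b = b := by
  rw [sub_mul, one_mul, sub_eq_zero] at h
  have h1 : ∀ i : ℕ, z ^ i * b = b := fun i => by
    induction i with
    | zero => simp
    | succ i ih => rw [pow_succ, mul_assoc, h, ih]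
  rw [ee, smul_mul_assoc, Finset.sum_mul]
  simp only [h1, Finset.sum_const, Finset.card_range]
  rw [← Nat.cast_smul_eq_nsmul ℂ, smul_smul, inv_mul_cancel₀ (Nat.cast_ne_zero.2 hp), one_smul]

omit [Finite G] in
theorem mul_ee {p : ℕ} {z : ℂ[G]} (h : z ^ p = 1) : (z - 1) * ee p z = 0 := by
  rw [ee, mul_smul_comm, mul_geom_sum, h, sub_self, smul_zero]

theorem finrank_ann {p : ℕ} (hp : p ≠ 0) {z a : ℂ[G]} (h : z ^ p = 1) (ha : IsIdempotentElem a) :
    (finrank ℂ (ann (z - 1) a) : ℂ) = finrank ℂ (ann 1 a) +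
      ∑ X : IrrCharacter G, ev X (ee p z) * ev X a := by
  have h1 : LinearMap.ker (Pim.lr 1 a) ≤ ann (z - 1) a := fun b hb => by
    have h2 : 1 * (b * a) = 0 := hb
    rw [mem_ann, ← one_mul (b * a), h2, mul_zero]
  have h2 : (ann (z - 1) a).map (Pim.lr 1 a) = LinearMap.range (Pim.lr (ee p z) a) := by
    apply le_antisymm
    · rintro _ ⟨b, hb, rfl⟩
      exact ⟨b, by rw [Pim.lr_apply, Pim.lr_apply, one_mul, ee_mul hp (mem_ann.1 hb)]⟩
    · rintro _ ⟨b, rfl⟩
      refine ⟨ee p z * b, ?_, by rw [Pim.lr_apply, Pim.lr_apply, one_mul, mul_assoc]⟩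
      rw [SetLike.mem_coe, mem_ann, mul_assoc, ← mul_assoc, mul_ee h, zero_mul]
  have h3 := Pim.isIdempotentElem_lr (ee_mul hp (mul_ee h)) ha
  rw [← finrank_map_add _ _ h1, h2, Nat.cast_add, add_comm,
    ← (LinearMap.IsIdempotentElem.isProj_range _ h3).trace, Pim.trace_lr]
  rfl

/-- The quotient map as a linear map over the residue field. -/
noncomputable def mq (a : ℂ[G]) : (kM M)[G] →ₗ[kM M] (kM M)[G] ⧸ JJ M a :=
  (JJ M a).mkQ.restrictScalars (kM M)

theorem finrank_map_mq (y a : ℂ[G]) :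
    finrank (kM M) ((red M (ann y a)).map (mq M a)) + finrank ℂ (ann 1 a) = finrank ℂ (ann y a) := by
  have h1 : LinearMap.ker (mq M a) = red M (ann 1 a) :=
    Submodule.ext fun r => Submodule.Quotient.mk_eq_zero (JJ M a)
  rw [← finrank_red M, ← finrank_red M, ← h1]
  refine finrank_map_add _ _ ?_
  rw [h1]
  rintro _ ⟨b, hb, hb', rfl⟩
  refine ⟨b, ?_, hb', rfl⟩
  rw [mem_ann, one_mul] at hb
  rw [mem_ann, hb, mul_zero]

theorem map_le_ker {z : ℂ[G]} (hz : z ∈ OG M G) {x : G} (hx : redG M z = single x 1) (a : ℂ[G]) :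
    (red M (ann (z - 1) a)).map (mq M a) ≤ LinearMap.ker (qrep (JJ M a) x - 1) := by
  rintro _ ⟨_, ⟨b, hb, hb', rfl⟩, rfl⟩
  have h1 : (single x 1 - 1) * redG M b ∈ JJ M a :=
    ⟨(z - 1) * b, by rw [mem_ann, one_mul, mul_assoc]; exact hb,
      mul_mem (sub_mem hz (one_mem _)) hb', by
        rw [redG_mul (sub_mem hz (one_mem _)) hb', redG_sub hz (one_mem _), hx, redG_one]⟩
  rw [LinearMap.mem_ker, qrep_eq, ← map_one (Algebra.lsmul (kM M) (kM M) _ (A := (kM M)[G])),
    ← map_sub]
  exact (Submodule.Quotient.mk_eq_zero (JJ M a)).2 h1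

theorem range_le_map {p : ℕ} [Fact p.Prime] (hM : IsPModular p M) {z : ℂ[G]} (hz : z ∈ OG M G)
    (h : z ^ p = 1) {x : G} (hx : redG M z = single x 1) (a : ℂ[G]) :
    LinearMap.range ((qrep (JJ M a) x - 1) ^ (p - 1)) ≤ (red M (ann (z - 1) a)).map (mq M a) := by
  have := charP_kM hM
  rintro _ ⟨v, rfl⟩
  obtain ⟨r, rfl⟩ := (JJ M a).mkQ_surjective v
  have h1 : ∑ i ∈ Finset.range p, z ^ i ∈ OG M G := sum_mem fun i _ => pow_mem hz i
  refine ⟨(single x 1 - 1) ^ (p - 1) * r, ⟨(∑ i ∈ Finset.range p, z ^ i) * liftG M r, ?_,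
    mul_mem h1 (liftG_mem_OG r), ?_⟩, ?_⟩
  · rw [mem_ann, mul_assoc, ← mul_assoc, mul_geom_sum, h, sub_self, zero_mul]
  · rw [redG_mul h1 (liftG_mem_OG r), redG_liftG, redG_sum fun i _ => pow_mem hz i,
      ← geom_eq (K := kM M) p]
    simp only [redG_pow hz, hx]
  · rw [qrep_eq, ← map_one (Algebra.lsmul (kM M) (kM M) _ (A := (kM M)[G])), ← map_sub, ← map_pow]
    rfl

end TreeAux

open TreeAux

namespace St

variable {G : Type u} [Group G] [Finite G] {p q : ℕ} [Fact p.Prime] [Fact q.Prime]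
  [MulAction G (ZMod p)] (S : St G p q)

theorem tree (hk : HK G) (g : S.KG) (jb : S.JB) : S.Tree := by
  classical
  intro c hc d hd
  have hp : p.Prime := Fact.out
  obtain ⟨h1, h2, h3, -⟩ := idemLift_spec (M := S.M) hc.idem
  set e := idemLift S.M c
  let T : Set (IrrCharacter G) := {X | S.dl X = d}
  have hz := commute_of_mem_center (fB_mem_center T) e
  have ha : IsIdempotentElem (fB T * e) := (isIdempotentElem_fB T).mul_of_commute hz h2
  have hJ : 1 - c ∈ JJ S.M (fB T * e) := ⟨1 - e, by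
    rw [mem_ann, one_mul, hz.eq, ← mul_assoc, sub_mul, one_mul, h2.eq, sub_self, zero_mul],
    sub_mem (one_mem _) h1, by rw [redG_sub (one_mem _) h1, redG_one, h3]⟩
  have h4 := jb _ (qrep (JJ S.M (fB T * e))) (local_end _ hc hJ)
  have hpow : ∀ t : ℂ, t ^ p = 1 → (single S.x t : ℂ[G]) ^ p = 1 := fun t ht => by
    rw [single_pow, ht, orderOf_dvd_iff_pow_eq_one.1 g.ox.dvd]; rfl
  have hO : ∀ t : ℂ, t ^ p = 1 → (single S.x t : ℂ[G]) ∈ OG S.M G := fun t ht =>
    single_mem_OG _ (vM_eq_one_of_pow_eq_one hp.ne_zero ht).le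
  have hr : ∀ t : ℂ, t ^ p = 1 → redG S.M (single S.x t : ℂ[G]) = single S.x 1 := fun t ht => by
    rw [redG_single, redM_eq_one_of_pow_p_pow S.hM (k := 1) (by rwa [pow_one])]
  have h5 : ∀ t t' : ℂ, t ^ p = 1 → t' ^ p = 1 →
      Module.finrank ℂ (ann (single S.x t - 1) (fB T * e)) ≤
        Module.finrank ℂ (ann (single S.x t' - 1) (fB T * e)) + 1 := fun t t' ht ht' => by
    have h6 := Submodule.finrank_mono (map_le_ker S.M (hO t ht) (hr t ht) (fB T * e))
    have h7 := Submodule.finrank_mono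
      (range_le_map S.M S.hM (hO t' ht') (hpow t' ht') (hr t' ht') (fB T * e))
    have h8 := finrank_map_mq S.M (single S.x t - 1) (fB T * e)
    have h9 := finrank_map_mq S.M (single S.x t' - 1) (fB T * e)
    omega
  obtain ⟨ζ, hζ⟩ : ∃ ζ : ℂ, IsPrimitiveRoot ζ p := ⟨_, Complex.isPrimitiveRoot_exp p hp.ne_zero⟩
  have h6 : ∀ X ∈ T, ev X (ee p (single S.x 1)) - ev X (ee p (single S.x ζ)) = d := by
    intro X hX
    have h7 : S.Val X d := by
      rcases hd with rfl | rfl
      exacts [S.dl_eq_one.1 hX, S.dl_eq_neg_one.1 hX]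
    have h8 : ∀ i ∈ Finset.range p,
        1 ^ i * (X : G → ℂ) (S.x ^ i) - ζ ^ i * (X : G → ℂ) (S.x ^ i) = d - d * ζ ^ i := by
      intro i hi
      rcases Nat.eq_zero_or_pos i with rfl | h0
      · simp
      · rw [h7 i (Nat.not_dvd_of_pos_of_lt h0 (Finset.mem_range.1 hi))]
        ring
    simp only [ee, ev, map_smul, map_sum, single_pow, evalFn_single, smul_eq_mul]
    rw [← mul_sub, ← Finset.sum_sub_distrib, Finset.sum_congr rfl h8, Finset.sum_sub_distrib,
      ← Finset.mul_sum, hζ.geom_sum_eq_zero hp.one_lt, Finset.sum_const, Finset.card_range,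
      mul_zero, sub_zero, nsmul_eq_mul, inv_mul_cancel_left₀ (Nat.cast_ne_zero.2 hp.ne_zero)]
  have h7 : (Module.finrank ℂ (ann (single S.x 1 - 1) (fB T * e)) : ℂ) -
      Module.finrank ℂ (ann (single S.x ζ - 1) (fB T * e)) =
      d * (∑ X ∈ Finset.univ.filter fun X => S.dl X = d, mu e X : ℕ) := by
    rw [finrank_ann hp.ne_zero (hpow 1 (one_pow p)) ha,
      finrank_ann hp.ne_zero (hpow ζ hζ.pow_eq_one) ha, add_sub_add_left_eq_sub,
      ← Finset.sum_sub_distrib, Nat.cast_sum, Finset.mul_sum, Finset.sum_filter]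
    refine Finset.sum_congr rfl fun X _ => ?_
    rw [← sub_mul]
    split_ifs with hX
    · rw [h6 X hX, hk.mu_cast e h2]
      exact congrArg _ (evalFn_fB_mul_of_mem (B := T) hX e)
    · rw [show ev X (fB T * e) = 0 from evalFn_fB_mul_of_not_mem (B := T) hX e, mul_zero]
  have h8 := h5 1 ζ (one_pow p) hζ.pow_eq_one
  have h9 := h5 ζ 1 hζ.pow_eq_one (one_pow p)
  generalize ∑ X ∈ Finset.univ.filter fun X => S.dl X = d, mu e X = n at h7 ⊢
  have h10 : (Module.finrank ℂ (ann (single S.x 1 - 1) (fB T * e)) : ℤ) -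
      Module.finrank ℂ (ann (single S.x ζ - 1) (fB T * e)) = d * n := by exact_mod_cast h7
  rcases hd with rfl | rfl <;> omega

end St

end Cfsg.Lib.W4Q
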